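import Groth.Agent.Lib.PuncturedLC.Basic
import Groth.Agent.Lib.RGamma.HTPowers
import Groth.Prelude.Def_Formal2

/-!
# `H^i(U, M~)` and local cohomology, naturally in `M`
-/

universe u

open CategoryTheory CategoryTheory.Limits TopologicalSpace Opposite AlgebraicGeometry Abelian

attribute [local instance] HasDerivedCategory.standard

namespace Groth.Agent.Lib.PuncturedLC

open Groth.Agent.Lib.LocalCoh

variable {A : Type u} [CommRing A] [IsNoetherianRing A] (a : Ideal A)

/-- Local cohomology with supports in `V(a)`. -/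
abbrev Ha (i : ℕ) (M : Type u) [AddCommGroup M] [Module A M] : Type u :=
  Dual2.HT (PrimeSpectrum.zeroLocus (a : Set A)) i M

/-- Functoriality of `Ha`. -/
noncomputable abbrev Hf (i : ℕ) {M N : Type u} [AddCommGroup M] [Module A M] [AddCommGroup N]
    [Module A N] (f : M →ₗ[A] N) : Ha a i M →ₗ[A] Ha a i N :=
  ((localCohomology.ofDiagram.{u, u}
    (Dual2.idealsInDiagram (PrimeSpectrum.zeroLocus (a : Set A))) i).map (ModuleCat.ofHom f)).hom

variable (M : Type u) [AddCommGroup M] [Module A M]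

/-- `Ha` and `LocCoh.H`. -/
noncomputable def toLC (i : ℕ) : Ha a i M ≃ₗ[A] LocCoh.H a i M :=
  ((RGamma.HTPowers.iso a i).app (ModuleCat.of A M)).toLinearEquiv

lemma toLC_natural {N : Type u} [AddCommGroup N] [Module A N] (f : M →ₗ[A] N) (i : ℕ) (x : Ha a i M) :
    toLC a N i (Hf a i f x) = ((localCohomology a i).map (ModuleCat.ofHom f)).hom (toLC a M i x) :=
  ConcreteCategory.congr_hom ((RGamma.HTPowers.iso a i).hom.naturality (ModuleCat.ofHom f)) x

/-- `H^i_a(M) ≅ H^i_{V(a)}(M~)`. -/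
noncomputable def ρ (i : ℕ) : Ha a i M ≃+ HZa a (ModuleCat.of A M) i :=
  (toLC a M i).toAddEquiv.trans (AddEquiv.ofBijective (φ a M i) (φ_bijective a M i))

lemma ρ_natural {N : Type u} [AddCommGroup N] [Module A N] (f : M →ₗ[A] N) (i : ℕ) (x : Ha a i M) :
    ρ a N i (Hf a i f x) = LocCohZ.map ((G A).map (ModuleCat.ofHom f)) i le_top (ρ a M i x) :=
  (congrArg (φ a N i) (toLC_natural a M f i x)).trans (φ_natural a f i _)

/-- `H^i(U, M~) → H^{i+1}_a(M)`. -/
noncomputable def ψ (i : ℕ) : Formal2.HV A M i (U a) →+ Ha a (i + 1) M :=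
  (ρ a M (i + 1)).symm.toAddMonoidHom.comp
    (LocCohZ.delta (X := (Spec (CommRingCat.of A)).toPresheafedSpace.carrier)
      ((G A).obj (ModuleCat.of A M)) i (le_top : U a ≤ ⊤))

lemma ψ_natural {N : Type u} [AddCommGroup N] [Module A N] (f : M →ₗ[A] N) (i : ℕ)
    (x : Formal2.HV A M i (U a)) :
    ψ a N i (Formal2.HVmap A f i (U a) x) = Hf a (i + 1) f (ψ a M i x) := by
  apply (ρ a N (i + 1)).injective
  rw [ρ_natural]
  show ρ a N (i + 1) ((ρ a N (i + 1)).symm _) = LocCohZ.map _ _ _ (ρ a M (i + 1) ((ρ a M (i + 1)).symm _))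
  rw [AddEquiv.apply_symm_apply, AddEquiv.apply_symm_apply]
  exact (Ext.comp_assoc _ _ _ (show 1 + i = i + 1 from add_comm 1 i) (add_zero i) (by omega)).symm

omit [IsNoetherianRing A] in
lemma hvan (n : ℕ) : Subsingleton (CohTop.HU (X := (Spec (CommRingCat.of A)).toPresheafedSpace.carrier)
    ((G A).obj (ModuleCat.of A M)) (n + 1) (⊤ : (Spec (CommRingCat.of A)).Opens)) :=
  haveI : (Formal2.tmod A M).IsQuasicoherent := by infer_instance
  ZarCoh.Affine.HU_subsingleton (Formal2.tmod A M) (isAffineOpen_top (Spec (CommRingCat.of A))) n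

theorem ψ_bijective (i : ℕ) : Function.Bijective (ψ a M (i + 1)) :=
  (ρ a M (i + 1 + 1)).symm.bijective.comp
    (Koszul.Stable.Supp.delta_bijective ((G A).obj (ModuleCat.of A M)) (U a) (hvan M) i)

/-- The class of an element in `H^0(U, M~)`. -/
noncomputable def res₀ : M →+ Formal2.HV A M 0 (U a) :=
  (Koszul.Stable.Supp.e0 (X := (Spec (CommRingCat.of A)).toPresheafedSpace.carrier)
    ((G A).obj (ModuleCat.of A M)) (U a)).symm.toAddMonoidHom.comp (sec (ModuleCat.of A M) (U a))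

lemma res₀_natural {N : Type u} [AddCommGroup N] [Module A N] (f : M →ₗ[A] N) (m : M) :
    Formal2.HVmap A f 0 (U a) (res₀ a M m) = res₀ a N (f m) := by
  let F := (G A).obj (ModuleCat.of A N)
  apply (Koszul.Stable.Supp.e0 (X := (Spec (CommRingCat.of A)).toPresheafedSpace.carrier) F (U a)).injective
  refine Eq.trans ?_ (AddEquiv.apply_symm_apply _ _).symm
  obtain ⟨h, hh⟩ := (Ext.mk₀_bijective _ _).2 (res₀ a M m)
  have h0 : Koszul.Stable.Supp.homSect _ (U a) h = sec (ModuleCat.of A M) (U a) m := by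
    have := congrArg (Koszul.Stable.Supp.e0 (X := (Spec (CommRingCat.of A)).toPresheafedSpace.carrier)
      ((G A).obj (ModuleCat.of A M)) (U a)) hh
    refine Eq.trans ?_ (this.trans (AddEquiv.apply_symm_apply _ _))
    exact congrArg (Koszul.Stable.Supp.homSect _ (U a)) (Ext.addEquiv₀.apply_symm_apply h).symm
  rw [← hh]
  show Koszul.Stable.Supp.homSect F (U a) (Ext.addEquiv₀ ((Ext.mk₀ h).comp (Ext.mk₀ _) (add_zero 0))) = _
  refine ((congrArg (fun z => Koszul.Stable.Supp.homSect F (U a) (Ext.addEquiv₀ z))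
    (Ext.mk₀_comp_mk₀ h _)).trans
    (congrArg (Koszul.Stable.Supp.homSect F (U a)) (Ext.addEquiv₀.apply_symm_apply _))).trans ?_
  refine Eq.trans ?_ (sec_natural (ModuleCat.ofHom f) (U a) m)
  exact Eq.trans rfl (congrArg (((G A).map (ModuleCat.ofHom f)).hom.app (op (U a))).hom h0)

theorem ψ_zero_surjective : Function.Surjective (ψ a M 0) := fun y => by
  obtain ⟨s, hs⟩ := Koszul.Stable.Supp.δ₀_surjective ((G A).obj (ModuleCat.of A M)) (U a) (hvan M)
    (ρ a M 1 y)
  refine ⟨(Koszul.Stable.Supp.e0 _ (U a)).symm s, ?_⟩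
  exact ((congrArg (ρ a M 1).symm hs).trans ((ρ a M 1).symm_apply_apply y))

theorem ψ_zero_eq_zero_iff (x : Formal2.HV A M 0 (U a)) : ψ a M 0 x = 0 ↔ ∃ m, res₀ a M m = x := by
  let F := (G A).obj (ModuleCat.of A M)
  let e := Koszul.Stable.Supp.e0 (X := (Spec (CommRingCat.of A)).toPresheafedSpace.carrier) F (U a)
  have h1 : ψ a M 0 x = 0 ↔ e x ∈ (Koszul.Stable.Supp.δ₀ F (U a)).ker := by
    show (ρ a M 1).symm (LocCohZ.delta F 0 le_top x) = 0 ↔ LocCohZ.delta F 0 le_top (e.symm (e x)) = 0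
    refine (AddEquiv.map_eq_zero_iff _).trans ?_
    exact Iff.of_eq (congrArg (fun z => LocCohZ.delta F 0 (le_top : U a ≤ ⊤) z = 0) (e.symm_apply_apply x).symm)
  rw [h1, Koszul.Stable.Supp.δ₀_ker F (U a)]
  constructor
  · rintro ⟨t, ht⟩
    obtain ⟨m, rfl⟩ := (sec_top_bijective (ModuleCat.of A M)).2 t
    exact ⟨m, e.injective ((e.apply_symm_apply _).trans
      ((H20.TildeSections.res_toU (ModuleCat.of A M) (le_top : U a ≤ ⊤) m).symm.trans ht))⟩
  · rintro ⟨m, rfl⟩
    exact ⟨sec (ModuleCat.of A M) ⊤ m, (H20.TildeSections.res_toU (ModuleCat.of A M)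
      (le_top : U a ≤ ⊤) m).trans (e.apply_symm_apply _).symm⟩

theorem res₀_eq_zero_iff (m : M) : res₀ a M m = 0 ↔ ∃ n : ℕ, ∀ c ∈ a ^ n, c • m = 0 :=
  (AddEquiv.map_eq_zero_iff
    (Koszul.Stable.Supp.e0 (X := (Spec (CommRingCat.of A)).toPresheafedSpace.carrier)
      ((G A).obj (ModuleCat.of A M)) (U a)).symm).trans (sec_U_eq_zero_iff a (ModuleCat.of A M) m)

/-- The element of a class in degree zero. -/
noncomputable def val₀ : Ha a 0 M →ₗ[A] M :=
  (DRing.torsionSub a M).subtype ∘ₗ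
    (((lcZeroIso a).app (ModuleCat.of A M)).toLinearEquiv.toLinearMap ∘ₗ (toLC a M 0).toLinearMap)

lemma val₀_natural {N : Type u} [AddCommGroup N] [Module A N] (f : M →ₗ[A] N) (x : Ha a 0 M) :
    val₀ a N (Hf a 0 f x) = f (val₀ a M x) := by
  refine (congrArg (fun z => ((DRing.torsionSub a N).subtype
    (((lcZeroIso a).app (ModuleCat.of A N)).toLinearEquiv z))) (toLC_natural a M f 0 x)).trans ?_
  exact congrArg Subtype.val
    (ConcreteCategory.congr_hom ((lcZeroIso a).hom.naturality (ModuleCat.ofHom f)) (toLC a M 0 x))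

lemma val₀_injective : Function.Injective (val₀ a M) :=
  Subtype.val_injective.comp
    ((((lcZeroIso a).app (ModuleCat.of A M)).toLinearEquiv.injective).comp (toLC a M 0).injective)

lemma exists_val₀_eq_iff (m : M) :
    (∃ x, val₀ a M x = m) ↔ ∃ n : ℕ, ∀ c ∈ a ^ n, c • m = 0 := by
  constructor
  · rintro ⟨x, rfl⟩
    exact (((lcZeroIso a).app (ModuleCat.of A M)).toLinearEquiv (toLC a M 0 x)).2
  · intro h
    obtain ⟨x, hx⟩ := (((toLC a M 0).trans ((lcZeroIso a).app (ModuleCat.of A M)).toLinearEquiv)).surjective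
      (⟨m, h⟩ : DRing.torsionSub a M)
    exact ⟨x, congrArg Subtype.val hx⟩

end Groth.Agent.Lib.PuncturedLC
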