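import Groth.Agent.Lib.PuncturedLC.Formal
import Mathlib.RingTheory.Filtration
import Mathlib.RingTheory.Ideal.AssociatedPrime.Localization

/-!
# Sections of `M~`: where they vanish, and left exactness
-/

universe u

open CategoryTheory CategoryTheory.Limits TopologicalSpace Opposite AlgebraicGeometry Abelian

attribute [local instance] HasDerivedCategory.standard

namespace Groth.Agent.Lib.PuncturedLC.Sections

open Groth.Agent.H20.TildeSections Groth.Agent.Lib.Koszul.Stable

variable {A : Type u} [CommRing A] (M : Type u) [AddCommGroup M] [Module A M]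
  {V W : (Spec (CommRingCat.of A)).Opens}

/-- Degree zero cohomology and sections. -/
noncomputable def sc (V : (Spec (CommRingCat.of A)).Opens) :
    Formal2.HV A M 0 V ≃+ Sec (ModuleCat.of A M) V :=
  Supp.e0 (X := (Spec (CommRingCat.of A)).toPresheafedSpace.carrier) ((G A).obj (ModuleCat.of A M)) V

lemma sc_res (h : W ≤ V) (z : Formal2.HV A M 0 V) :
    sc M W (Formal2.HVres A M 0 h z) = res (ModuleCat.of A M) h (sc M V z) :=
  Supp.e0_pre (X := (Spec (CommRingCat.of A)).toPresheafedSpace.carrier)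
    ((G A).obj (ModuleCat.of A M)) h z

variable {M}

/-- Functoriality of sections. -/
noncomputable def fS {N : Type u} [AddCommGroup N] [Module A N] (f : M →ₗ[A] N)
    (V : (Spec (CommRingCat.of A)).Opens) :
    Sec (ModuleCat.of A M) V →ₗ[A] Sec (ModuleCat.of A N) V :=
  ((modulesSpecToSheaf.map (tilde.map (R := CommRingCat.of A) (ModuleCat.ofHom f))).hom.app (op V)).hom

lemma fS_toU {N : Type u} [AddCommGroup N] [Module A N] (f : M →ₗ[A] N)
    (V : (Spec (CommRingCat.of A)).Opens) (m : M) :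
    fS f V (toU (ModuleCat.of A M) V m) = toU (ModuleCat.of A N) V (f m) :=
  sec_natural (ModuleCat.ofHom f) V m

lemma sc_map {N : Type u} [AddCommGroup N] [Module A N] (f : M →ₗ[A] N)
    (z : Formal2.HV A M 0 V) : sc N V (Formal2.HVmap A f 0 V z) = fS f V (sc M V z) := by
  obtain ⟨h, rfl⟩ := (Ext.mk₀_bijective _ _).2 z
  let F := (G A).obj (ModuleCat.of A N)
  show Supp.homSect F V (Ext.addEquiv₀ ((Ext.mk₀ h).comp (Ext.mk₀ _) (add_zero 0))) = _
  refine ((congrArg (fun z => Supp.homSect F V (Ext.addEquiv₀ z)) (Ext.mk₀_comp_mk₀ h _)).trans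
    (congrArg (Supp.homSect F V) (Ext.addEquiv₀.apply_symm_apply _))).trans ?_
  refine Eq.trans ?_ (congrArg (fun z => fS f V (Supp.homSect _ V z))
    (Ext.addEquiv₀.apply_symm_apply h).symm)
  rfl

lemma HVres_HVres {V₁ V₂ V₃ : (Spec (CommRingCat.of A)).Opens} (h : V₂ ≤ V₁) (h' : V₃ ≤ V₂)
    (z : Formal2.HV A M 0 V₁) :
    Formal2.HVres A M 0 h' (Formal2.HVres A M 0 h z) = Formal2.HVres A M 0 (h'.trans h) z := by
  apply (sc M V₃).injective
  rw [sc_res, sc_res, sc_res, res_res]

lemma HVres_self (z : Formal2.HV A M 0 V) : Formal2.HVres A M 0 (le_refl V) z = z := by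
  apply (sc M V).injective
  rw [sc_res]
  exact LinearMap.congr_fun (congrArg ModuleCat.Hom.hom
    ((modulesSpecToSheaf.obj (tilde (R := CommRingCat.of A) (ModuleCat.of A M))).obj.map_id (op V))) _

lemma HVres_HVmap {N : Type u} [AddCommGroup N] [Module A N] (f : M →ₗ[A] N) (h : W ≤ V)
    (z : Formal2.HV A M 0 V) :
    Formal2.HVres A N 0 h (Formal2.HVmap A f 0 V z) = Formal2.HVmap A f 0 W (Formal2.HVres A M 0 h z) := by
  apply (sc N W).injective
  rw [sc_res, sc_map, sc_map, sc_res]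
  exact (LinearMap.congr_fun (congrArg ModuleCat.Hom.hom
    ((modulesSpecToSheaf.map (tilde.map (R := CommRingCat.of A) (ModuleCat.ofHom f))).hom.naturality
      (homOfLE h).op)) (sc M V z)).symm

/-- The largest open on which a class vanishes. -/
theorem exists_zero_open (z : Formal2.HV A M 0 V) :
    ∃ (W : (Spec (CommRingCat.of A)).Opens) (h : W ≤ V), Formal2.HVres A M 0 h z = 0 ∧
      ∀ (W' : (Spec (CommRingCat.of A)).Opens) (h' : W' ≤ V),
        Formal2.HVres A M 0 h' z = 0 → W' ≤ W := by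
  let S := {W' : (Spec (CommRingCat.of A)).Opens | ∃ h' : W' ≤ V, Formal2.HVres A M 0 h' z = 0}
  refine ⟨sSup S, sSup_le fun W' hW' => hW'.1, (sc M _).injective ?_,
    fun W' h' h0 => le_sSup ⟨h', h0⟩⟩
  rw [map_zero, sc_res]
  refine TopCat.Presheaf.IsSheaf.section_ext
    (modulesSpecToSheaf.obj (tilde (R := CommRingCat.of A) (ModuleCat.of A M))).2 fun x hx => ?_
  obtain ⟨W', hW', hxW'⟩ := Opens.mem_sSup.1 hx
  obtain ⟨h', h0⟩ := id hW'
  have hle : W' ≤ sSup S := le_sSup hW'
  refine ⟨W', hle, hxW', ?_⟩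
  show res (ModuleCat.of A M) hle (res (ModuleCat.of A M) _ (sc M V z)) =
    res (ModuleCat.of A M) hle 0
  rw [res_res, map_zero, ← sc_res, h0, map_zero]

/-- Near a point a class is a fraction. -/
theorem exists_frac (z : Formal2.HV A M 0 V) (p : PrimeSpectrum A) (hp : p ∈ V) :
    ∃ (g : A) (hg : D g ≤ V) (m : M) (k : ℕ), g ∉ p.asIdeal ∧
      g ^ k • res (ModuleCat.of A M) hg (sc M V z) = toU (ModuleCat.of A M) (D g) m := by
  obtain ⟨_, ⟨_, ⟨g, rfl⟩, rfl⟩, hpg, hgV⟩ :=
    PrimeSpectrum.isBasis_basic_opens.exists_subset_of_mem_open hp V.2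
  have := isLocalizedModule_toU (ModuleCat.of A M) (g : A)
  obtain ⟨⟨m, ⟨_, k, rfl⟩⟩, hm⟩ := IsLocalizedModule.surj (Submonoid.powers (g : A))
    (toU (ModuleCat.of A M) (D g)) (res (ModuleCat.of A M) (show D g ≤ V from hgV) (sc M V z))
  exact ⟨g, hgV, m, k, hpg, hm⟩

/-- A fraction with numerator killed by `t` vanishes on `D(gt)`. -/
theorem exists_vanish_of_smul {z : Formal2.HV A M 0 V} {g : A} {hg : D g ≤ V} {m : M} {k : ℕ}
    (hm : g ^ k • res (ModuleCat.of A M) hg (sc M V z) = toU (ModuleCat.of A M) (D g) m) {t : A}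
    (ht : t • m = 0) : ∃ (h : D (g * t) ≤ V), Formal2.HVres A M 0 h z = 0 := by
  have hle : D (g * t) ≤ D g := PrimeSpectrum.basicOpen_mul_le_left g t
  refine ⟨hle.trans hg, (sc M _).injective ?_⟩
  rw [map_zero, sc_res]
  refine eq_zero_of_le_basicOpen (n := k + 1) _ rfl _ ?_
  rw [← res_res _ hg hle, ← map_smul,
    show (g * t) ^ (k + 1) = (t ^ k * g * t) * g ^ k by ring, mul_smul, hm, ← map_smul, mul_smul, ht,
    smul_zero, map_zero, map_zero]

/-- Vanishing on a neighbourhood of a point. -/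
def VanishNear (z : Formal2.HV A M 0 V) (p : PrimeSpectrum A) : Prop :=
  ∃ (W : (Spec (CommRingCat.of A)).Opens) (h : W ≤ V), p ∈ W ∧ Formal2.HVres A M 0 h z = 0

theorem vanishNear_of_smul {z : Formal2.HV A M 0 V} {g : A} {hg : D g ≤ V} {m : M} {k : ℕ}
    (hm : g ^ k • res (ModuleCat.of A M) hg (sc M V z) = toU (ModuleCat.of A M) (D g) m) {t : A}
    (ht : t • m = 0) {p : PrimeSpectrum A} (hgp : g ∉ p.asIdeal) (htp : t ∉ p.asIdeal) :
    VanishNear z p := by
  obtain ⟨h, h0⟩ := exists_vanish_of_smul hm ht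
  exact ⟨_, h, p.isPrime.mul_notMem hgp htp, h0⟩

theorem vanishNear_of_generization {z : Formal2.HV A M 0 V} {p r : PrimeSpectrum A} (hpr : p ≤ r)
    (h : VanishNear z r) : VanishNear z p := by
  obtain ⟨W, hW, hr, h0⟩ := h
  exact ⟨W, hW, ((PrimeSpectrum.le_iff_specializes p r).1 hpr).mem_open W.2 hr, h0⟩

theorem vanishNear_of_notMem_support (z : Formal2.HV A M 0 V) {p : PrimeSpectrum A} (hp : p ∈ V)
    (hs : p ∉ Module.support A M) : VanishNear z p := by
  obtain ⟨g, hg, m, k, hgp, hm⟩ := exists_frac z p hp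
  obtain ⟨t, htp, ht⟩ := Module.notMem_support_iff'.1 hs m
  exact vanishNear_of_smul hm ht hgp htp

theorem eq_zero_of_vanishNear (z : Formal2.HV A M 0 V) (h : ∀ p : PrimeSpectrum A, p ∈ V → VanishNear z p) : z = 0 := by
  obtain ⟨W, hW, h0, hmax⟩ := exists_zero_open z
  have : V ≤ W := fun p hp => by
    obtain ⟨W', hW', hpW', h0'⟩ := h p hp
    exact hmax W' hW' h0' hpW'
  obtain rfl := le_antisymm hW this
  exact (HVres_self z).symm.trans h0

lemma HVmap_comp {N P : Type u} [AddCommGroup N] [Module A N] [AddCommGroup P] [Module A P]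
    (f : M →ₗ[A] N) (g : N →ₗ[A] P) (i : ℕ) (z : Formal2.HV A M i V) :
    Formal2.HVmap A g i V (Formal2.HVmap A f i V z) = Formal2.HVmap A (g ∘ₗ f) i V z := by
  have h : (G A).map (ModuleCat.ofHom (g ∘ₗ f)) =
      (G A).map (ModuleCat.ofHom f) ≫ (G A).map (ModuleCat.ofHom g) := by
    rw [← Functor.map_comp]
    rfl
  exact (ConcreteCategory.congr_hom (congrArg (fun t => (NatTrans.app t (op V)))
    ((congrArg (Sheaf.cohomologyPresheafFunctor
      (_root_.Opens.grothendieckTopology (AlgebraicGeometry.Spec (CommRingCat.of A)).toPresheafedSpace.carrier) i).map h).trans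
        (Functor.map_comp _ _ _))) z).symm

lemma HVmap_id (i : ℕ) (z : Formal2.HV A M i V) :
    Formal2.HVmap A (LinearMap.id : M →ₗ[A] M) i V z = z := by
  show Ext.comp z (Ext.mk₀ ((G A).map (𝟙 (ModuleCat.of A M)))) (add_zero i) = z
  rw [CategoryTheory.Functor.map_id]
  exact Ext.comp_mk₀_id z

lemma HVmap_zero {N : Type u} [AddCommGroup N] [Module A N] (i : ℕ) (z : Formal2.HV A M i V) :
    Formal2.HVmap A (0 : M →ₗ[A] N) i V z = 0 := by
  have h : (G A).map (ModuleCat.ofHom (0 : M →ₗ[A] N)) = 0 := (G A).map_zero _ _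
  exact (congrArg (fun t => Ext.comp z (Ext.mk₀ t) (add_zero i)) h).trans
    ((congrArg (fun t => Ext.comp z t (add_zero i)) (Ext.mk₀_zero _ _)).trans (Ext.comp_zero _ _ _ _ _))

lemma HVmap_sum {N : Type u} [AddCommGroup N] [Module A N] {ι : Type u} (s : Finset ι)
    (f : ι → (M →ₗ[A] N)) (i : ℕ) (z : Formal2.HV A M i V) :
    Formal2.HVmap A (∑ j ∈ s, f j) i V z = ∑ j ∈ s, Formal2.HVmap A (f j) i V z := by
  classical
  induction s using Finset.induction with
  | empty => rw [Finset.sum_empty, Finset.sum_empty, HVmap_zero]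
  | insert j s hj ih =>
    rw [Finset.sum_insert hj, Finset.sum_insert hj, ← ih]
    have h : (G A).map (ModuleCat.ofHom (f j + ∑ j ∈ s, f j)) =
        (G A).map (ModuleCat.ofHom (f j)) + (G A).map (ModuleCat.ofHom (∑ j ∈ s, f j)) :=
      (G A).map_add
    exact (congrArg (fun t => Ext.comp z (Ext.mk₀ t) (add_zero i)) h).trans
      ((congrArg (fun t => Ext.comp z t (add_zero i)) (Ext.mk₀_add _ _)).trans (Ext.comp_add _ _ _ _))

section Noetherian

variable [IsNoetherianRing A] [Module.Finite A M]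

/-- A class killed modulo all powers of `I` vanishes near `V(I)`. -/
theorem vanishNear_of_quot (I : Ideal A) (z : Formal2.HV A M 0 V)
    (hz : ∀ n, Formal2.HVmap A (Formal2.quotPowπ A I M n) 0 V z = 0) {p : PrimeSpectrum A}
    (hp : p ∈ V) (hI : I ≤ p.asIdeal) : VanishNear z p := by
  obtain ⟨g, hg, m, k, hgp, hm⟩ := exists_frac z p hp
  let R := Localization.AtPrime p.asIdeal
  let L := LocalizedModule p.asIdeal.primeCompl M
  let ι : M →ₗ[A] L := LocalizedModule.mkLinearMap p.asIdeal.primeCompl M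
  have : Module.Finite R L := Module.Finite.of_isLocalizedModule p.asIdeal.primeCompl ι
  let J := I.map (algebraMap A R)
  have hJ : J ≠ ⊤ := fun h => (IsLocalRing.maximalIdeal.isMaximal R).ne_top (top_le_iff.1
    (h ▸ (Ideal.map_mono hI).trans (IsLocalization.AtPrime.map_eq_maximalIdeal p.asIdeal R).le))
  suffices h : ι m ∈ (⨅ n : ℕ, J ^ n • ⊤ : Submodule R L) by
    rw [Ideal.iInf_pow_smul_eq_bot_of_isLocalRing J hJ, Submodule.mem_bot] at h
    obtain ⟨⟨t, ht⟩, ht0⟩ := (IsLocalizedModule.eq_zero_iff p.asIdeal.primeCompl ι).1 h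
    exact vanishNear_of_smul hm ht0 hgp ht
  rw [Submodule.mem_iInf]
  intro n
  have hn : J ^ (n + 1) • (⊤ : Submodule R L) ≤ J ^ n • ⊤ :=
    Submodule.smul_mono_left (Ideal.pow_le_pow_right n.le_succ)
  apply hn
  have hq : Formal2.HVres A _ 0 hg (Formal2.HVmap A (Formal2.quotPowπ A I M n) 0 V z) = 0 := by
    rw [hz, map_zero]
  rw [HVres_HVmap] at hq
  have hq' := congrArg (sc _ _) hq
  rw [sc_map, map_zero, sc_res] at hq'
  have h0 := congrArg (fS (Formal2.quotPowπ A I M n) (D g)) hm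
  rw [map_smul, hq', smul_zero, fS_toU] at h0
  obtain ⟨⟨_, j, rfl⟩, hj⟩ :=
    (IsLocalizedModule.eq_zero_iff (Submonoid.powers g) (toU (ModuleCat.of A _) (D g))).1 h0.symm
  change g ^ j • (Submodule.Quotient.mk m : Formal2.quotPow A I M n) = 0 at hj
  rw [← Submodule.Quotient.mk_smul, Submodule.Quotient.mk_eq_zero] at hj
  have hle : (I ^ (n + 1) • ⊤ : Submodule A M).map ι ≤
      (J ^ (n + 1) • ⊤ : Submodule R L).restrictScalars A := by
    rw [Submodule.map_le_iff_le_comap, Submodule.smul_le]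
    intro c hc v _
    show ι (c • v) ∈ J ^ (n + 1) • (⊤ : Submodule R L)
    rw [map_smul, ← algebraMap_smul R c (ι v)]
    exact Submodule.smul_mem_smul (by rw [← Ideal.map_pow]; exact Ideal.mem_map_of_mem _ hc)
      Submodule.mem_top
  have h1 : ι (g ^ j • m) ∈ J ^ (n + 1) • (⊤ : Submodule R L) :=
    hle (Submodule.mem_map_of_mem hj)
  rw [map_smul, ← algebraMap_smul R] at h1
  have hu : IsUnit (algebraMap A R (g ^ j)) :=
    IsLocalization.map_units R (⟨g ^ j, pow_mem hgp j⟩ : p.asIdeal.primeCompl)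
  exact (Submodule.smul_mem_iff_of_isUnit _ hu).1 h1

/-- It suffices to vanish near the associated primes. -/
theorem eq_zero_of_associated (z : Formal2.HV A M 0 V)
    (h : ∀ P : PrimeSpectrum A, P.asIdeal ∈ associatedPrimes A M → P ∈ V → VanishNear z P) :
    z = 0 := by
  refine eq_zero_of_vanishNear z fun p hp => ?_
  obtain ⟨g, hg, m, k, hgp, hm⟩ := exists_frac z p hp
  by_contra hno
  let N := Submodule.span A ({m} : Set M)
  have hann : Module.annihilator A N ≤ p.asIdeal := fun t ht => by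
    by_contra htp
    exact hno (vanishNear_of_smul hm
      (congrArg Subtype.val (Module.mem_annihilator.1 ht ⟨m, Submodule.mem_span_singleton_self m⟩))
      hgp htp)
  obtain ⟨P, hP, hPp⟩ := Ideal.exists_minimalPrimes_le hann
  let P' : PrimeSpectrum A := ⟨P, hP.1.1⟩
  have hgP : g ∉ P := fun hgP => hgp (hPp hgP)
  obtain ⟨W, hW, hPW, h0⟩ := h P'
    (associatedPrimes.subset_of_injective N.injective_subtype
      (Module.associatedPrimes.minimalPrimes_annihilator_subset_associatedPrimes A N hP))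
    (hg hgP)
  obtain ⟨_, ⟨_, ⟨t, rfl⟩, rfl⟩, hPt, htW⟩ :=
    PrimeSpectrum.isBasis_basic_opens.exists_subset_of_mem_open hPW W.2
  have hle1 : D (g * t) ≤ D g := PrimeSpectrum.basicOpen_mul_le_left g t
  have hle2 : D (g * t) ≤ W := (PrimeSpectrum.basicOpen_mul_le_right g t).trans htW
  have h1 : res (ModuleCat.of A M) (hle1.trans hg) (sc M V z) = 0 := by
    rw [← sc_res, ← HVres_HVres hW hle2, h0, map_zero, map_zero]
  have h2 := congrArg (res (ModuleCat.of A M) hle1) hm
  rw [map_smul, res_res, h1, smul_zero, res_toU] at h2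
  have := isLocalizedModule_toU (ModuleCat.of A M) (g * t : A)
  obtain ⟨⟨_, j, rfl⟩, hj⟩ :=
    (IsLocalizedModule.eq_zero_iff (Submonoid.powers (g * t : A)) (toU (ModuleCat.of A M) (D (g * t)))).1
      h2.symm
  have hk : (g * t) ^ j ∈ Module.annihilator A N := Module.mem_annihilator.2 fun v => by
    obtain ⟨c, hc⟩ := Submodule.mem_span_singleton.1 v.2
    apply Subtype.ext
    show (g * t) ^ j • v.1 = 0
    rw [← hc, smul_comm, show (g * t) ^ j • m = 0 from hj, smul_zero]
  exact (P'.isPrime.mem_or_mem (P'.isPrime.mem_of_pow_mem j (hP.1.2 hk))).elim hgP hPt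

end Noetherian

section Exact

variable {M' M'' : Type u} [AddCommGroup M'] [Module A M'] [AddCommGroup M''] [Module A M'']
  {f : M' →ₗ[A] M} {g : M →ₗ[A] M''}

theorem HVmap_injective (hf : Function.Injective f) :
    Function.Injective (Formal2.HVmap A f 0 V) := fun x y h => by
  have : (G A).PreservesMonomorphisms := preservesMonomorphisms_of_preservesLimitsOfShape _
  have : Mono (ModuleCat.ofHom f) := (ModuleCat.mono_iff_injective _).2 hf
  have : Mono ((G A).map (ModuleCat.ofHom f)) := Functor.map_mono _ _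
  obtain ⟨x, rfl⟩ := (Ext.mk₀_bijective _ _).2 x
  obtain ⟨y, rfl⟩ := (Ext.mk₀_bijective _ _).2 y
  have e := (Ext.mk₀_comp_mk₀ x ((G A).map (ModuleCat.ofHom f))).symm.trans
    (h.trans (Ext.mk₀_comp_mk₀ y _))
  exact congrArg Ext.mk₀ (this.right_cancellation x y ((Ext.mk₀_bijective _ _).1 e))

theorem exists_of_HVmap_eq_zero (hf : Function.Injective f) (hg : Function.Surjective g)
    (hfg : Function.Exact f g) (z : Formal2.HV A M 0 V) (hz : Formal2.HVmap A g 0 V z = 0) :
    ∃ x, Formal2.HVmap A f 0 V x = z := by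
  let S : ShortComplex (ModuleCat.{u} A) := ShortComplex.mk (ModuleCat.ofHom f) (ModuleCat.ofHom g)
    (ModuleCat.hom_ext hfg.linearMap_comp_eq_zero)
  have hS : S.ShortExact :=
    { exact := (ShortComplex.ShortExact.moduleCat_exact_iff_function_exact S).2 hfg
      mono_f := (ModuleCat.mono_iff_injective _).2 hf
      epi_g := (ModuleCat.epi_iff_surjective _).2 hg }
  exact Ext.covariant_sequence_exact₂ _ (hS.map_of_exact (G A)) z hz

end Exact

end Groth.Agent.Lib.PuncturedLC.Sections
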