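import Groth.Agent.Lib.PuncturedLC.Reflexive
import Groth.Agent.Lib.PuncturedLC.Sections
import Groth.Agent.Lib.ProZero.Final
import Groth.Agent.Lib.Depth.Assoc

/-!
# Formal sections on the complement of `V(a)` via the components of a module
-/

universe u

open CategoryTheory CategoryTheory.Limits Opposite

attribute [local instance] HasDerivedCategory.standard

namespace Groth.Agent.Lib.PuncturedLC.Components

open Groth.Agent.Lib.DMod Groth.Agent.Lib.LCFin Groth.Agent.Lib.ProZero.Complex Groth.Agent.Lib.ProZero.Seq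
open Groth.Agent.Lib.DMod.Degree (deg)

variable {A : Type u} [CommRing A] [IsNoetherianRing A] {I a : Ideal A}

/-- Pro-vanishing from a condition on the depths at the primes outside `V(I)`. -/
theorem pro_of_cond {ω : Dual.D A} (hω : Dual.IsDualizing A ω) (hI : I ≤ a) {d : ℕ}
    (hd : LocCoh.CdLE A I d) (M : Type u) [AddCommGroup M] [Module A M] [Module.Finite A M] (s : ℕ)
    (hc : ∀ p q : PrimeSpectrum A, p ≤ q → ¬ I ≤ p.asIdeal → a ≤ q.asIdeal →
      (s : ℕ∞) < LocCoh.depth (Localization.AtPrime p.asIdeal)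
          (LocalizedModule p.asIdeal.primeCompl M) ∨
        ((d + s : ℕ) : WithBot ℕ∞) < ((LocCoh.depth (Localization.AtPrime p.asIdeal)
          (LocalizedModule p.asIdeal.primeCompl M) : ℕ∞) : WithBot ℕ∞) +
            Formal2.dimBetween A p.asIdeal q.asIdeal) : Pro I a M s := by
  have D : ProZero.Final.Data I M s d (PrimeSpectrum.zeroLocus (a : Set A)) :=
    { hdc := ⟨ω, hω⟩
      hcd := hd
      hTI := PrimeSpectrum.zeroLocus_anti_mono hI
      hT := fun p q hpq hp => hpq.mem_closed (PrimeSpectrum.isClosed_zeroLocus _) hp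
      h4 := fun p r q hpr hrq hp _ _ hq =>
        (hc p q (hpr.trans hrq) hp hq).imp (fun h => h.le) id
      h6 := fun q hq p' hp' hmax =>
        Bootstrap.depth_gt_completion hω I M q s d hd (hI.trans hq) p' hp' hmax
          fun p hpq hp => hc p q hpq hp hq }
  exact fun n => ProZero.Final.proZero D n

lemma depth_eq_top {M : Type u} [AddCommGroup M] [Module A M] {p : PrimeSpectrum A}
    (hp : p ∉ Module.support A M) :
    LocCoh.depth (Localization.AtPrime p.asIdeal) (LocalizedModule p.asIdeal.primeCompl M) = ⊤ := by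
  have := Module.notMem_support_iff.1 hp
  exact Depth.Basic.idealDepth_subsingleton (M := LocalizedModule p.asIdeal.primeCompl M)

theorem one_le_depth_iff (M : Type u) [AddCommGroup M] [Module A M] [Module.Finite A M]
    (p : PrimeSpectrum A) : 1 ≤ LocCoh.depth (Localization.AtPrime p.asIdeal)
      (LocalizedModule p.asIdeal.primeCompl M) ↔ p.asIdeal ∉ associatedPrimes A M := by
  let R := Localization.AtPrime p.asIdeal
  let f := LocalizedModule.mkLinearMap p.asIdeal.primeCompl M
  have : Module.Finite R (LocalizedModule p.asIdeal.primeCompl M) :=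
    Module.Finite.of_isLocalizedModule p.asIdeal.primeCompl f
  have key := Module.associatedPrimes.preimage_comap_associatedPrimes_eq_associatedPrimes_of_isLocalizedModule
    p.asIdeal.primeCompl R f
  have hiff : IsLocalRing.maximalIdeal R ∈ associatedPrimes R (LocalizedModule p.asIdeal.primeCompl M) ↔
      p.asIdeal ∈ associatedPrimes A M := by
    rw [← key, Set.mem_preimage, ← Ideal.under_def, Localization.AtPrime.under_maximalIdeal]
  rcases subsingleton_or_nontrivial (LocalizedModule p.asIdeal.primeCompl M) with h | h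
  · rw [show LocCoh.depth R (LocalizedModule p.asIdeal.primeCompl M) = ⊤ from
      Depth.Basic.idealDepth_subsingleton, ← hiff]
    simp [associatedPrimes.eq_empty_of_subsingleton]
  · rw [Order.one_le_iff_ne_zero, ne_eq, Depth.Assoc.depth_eq_zero_iff, hiff]

/-- Depth of a cokernel of an injection. -/
theorem notMem_associatedPrimes_coker {M M'' : Type u} [AddCommGroup M] [Module A M]
    [Module.Finite A M] [AddCommGroup M''] [Module A M''] [Module.Finite A M''] (f : M →ₗ[A] M'')
    (hf : Function.Injective f) (p : PrimeSpectrum A)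
    (h2 : (2 : ℕ∞) ≤ LocCoh.depth (Localization.AtPrime p.asIdeal)
      (LocalizedModule p.asIdeal.primeCompl M))
    (h'' : p.asIdeal ∉ associatedPrimes A M'') :
    p.asIdeal ∉ associatedPrimes A (M'' ⧸ LinearMap.range f) := by
  rw [← one_le_depth_iff] at h'' ⊢
  let S := p.asIdeal.primeCompl
  let R := Localization.AtPrime p.asIdeal
  have : Module.Finite R (LocalizedModule S M) :=
    Module.Finite.of_isLocalizedModule S (LocalizedModule.mkLinearMap S M)
  have : Module.Finite R (LocalizedModule S M'') :=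
    Module.Finite.of_isLocalizedModule S (LocalizedModule.mkLinearMap S M'')
  have : Module.Finite R (LocalizedModule S (M'' ⧸ LinearMap.range f)) :=
    Module.Finite.of_isLocalizedModule S (LocalizedModule.mkLinearMap S _)
  exact Depth.SES.le_idealDepth_right (IsLocalRing.maximalIdeal R)
    (LocalizedModule.map_injective S f hf)
    (show Function.Exact (LocalizedModule.map S f) (LocalizedModule.map S (LinearMap.range f).mkQ) from
      LocalizedModule.map_exact S f _ (LinearMap.exact_map_mkQ_range f))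
    (LocalizedModule.map_surjective S (LinearMap.range f).mkQ (Submodule.mkQ_surjective _))
    (n := 1) h'' h2

/-- The induced map on the quotients by powers of `I`. -/
noncomputable def qmap (I : Ideal A) {M N : Type u} [AddCommGroup M] [Module A M] [AddCommGroup N]
    [Module A N] (f : M →ₗ[A] N) (n : ℕ) :
    Formal2.quotPow A I M n →ₗ[A] Formal2.quotPow A I N n :=
  Submodule.mapQ _ _ f (by
    rw [← Submodule.map_le_iff_le_comap, Submodule.map_smul'']
    exact Submodule.smul_mono le_rfl le_top)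

lemma qmap_π {M N : Type u} [AddCommGroup M] [Module A M] [AddCommGroup N] [Module A N]
    (f : M →ₗ[A] N) (n : ℕ) :
    qmap I f n ∘ₗ Formal2.quotPowπ A I M n = Formal2.quotPowπ A I N n ∘ₗ f := rfl

lemma qmap_comp {M N P : Type u} [AddCommGroup M] [Module A M] [AddCommGroup N] [Module A N]
    [AddCommGroup P] [Module A P] (f : M →ₗ[A] N) (g : N →ₗ[A] P) (n : ℕ) :
    qmap I g n ∘ₗ qmap I f n = qmap I (g ∘ₗ f) n :=
  LinearMap.ext fun z => by
    obtain ⟨z, rfl⟩ := Submodule.Quotient.mk_surjective _ z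
    rfl

lemma qmap_trans {M N : Type u} [AddCommGroup M] [Module A M] [AddCommGroup N] [Module A N]
    (f : M →ₗ[A] N) (n : ℕ) :
    Formal2.quotPowTrans A I N n ∘ₗ qmap I f (n + 1) = qmap I f n ∘ₗ Formal2.quotPowTrans A I M n :=
  LinearMap.ext fun z => by
    obtain ⟨z, rfl⟩ := Submodule.Quotient.mk_surjective _ z
    rfl

variable (I a)

/-- The dimension condition on the associated primes. -/
def Cond (d : ℕ) (M : Type u) [AddCommGroup M] [Module A M] : Prop :=
  ∀ p ∈ associatedPrimes A M, ¬ a ≤ p → ¬ I ≤ p →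
    (∃ r : Ideal A, r.IsPrime ∧ p ≤ r ∧ I ≤ r ∧ ¬ a ≤ r) →
      ∀ (q : Ideal A) [q.IsPrime], p ≤ q → a ≤ q →
        ((d + 1 : ℕ) : WithBot ℕ∞) < Formal2.dimBetween A p q

variable {I a}

/-- Compatible families lift to each component. -/
theorem exists_lift [IsAdicComplete I A] {ω : Dual.D A} (hω : Dual.IsDualizing A ω) (hI : I ≤ a)
    {d : ℕ} (hd : LocCoh.CdLE A I d) {M : Type u} [AddCommGroup M] [Module A M] [Module.Finite A M]
    (hM : Cond I a d M) (p₀ : PrimeSpectrum A) (hp₀ : p₀.asIdeal ∈ associatedPrimes A M)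
    (P : Type u) [AddCommGroup P] [Module A P] [Module.Finite A P]
    (hsupp : ∀ p ∈ Module.support A P, p₀ ≤ p)
    (hd1 : ∀ p : PrimeSpectrum A, p₀ < p → (1 : ℕ∞) ≤
      LocCoh.depth (Localization.AtPrime p.asIdeal) (LocalizedModule p.asIdeal.primeCompl P))
    (hd2 : ∀ p : PrimeSpectrum A, p₀ ≤ p → deg hω p₀ + 2 ≤ deg hω p → (2 : ℕ∞) ≤
      LocCoh.depth (Localization.AtPrime p.asIdeal) (LocalizedModule p.asIdeal.primeCompl P))
    (y : ∀ n, Formal2.HV A (Formal2.quotPow A I P n) 0 (U a))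
    (hy : ∀ n, Formal2.HVmap A (Formal2.quotPowTrans A I P n) 0 (U a) (y (n + 1)) = y n) :
    ∃ x : Formal2.HV A P 0 (U a), ∀ n, Formal2.HVmap A (Formal2.quotPowπ A I P n) 0 (U a) x = y n := by
  by_cases hgood : I ≤ p₀.asIdeal ∨ ∃ r : Ideal A, r.IsPrime ∧ p₀.asIdeal ≤ r ∧ I ≤ r ∧ ¬ a ≤ r
  · have : IsAdicComplete I P := Adic.Complete.isAdicComplete_of_finite
    refine (formalCohBijective (pro_of_cond (a := a) hω hI hd P 1 fun p q hpq hp hq => ?_) 0
      le_rfl).2 y hy
    by_cases hps : p ∈ Module.support A P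
    swap
    · exact Or.inl (by rw [depth_eq_top hps]; exact ENat.natCast_lt_top 1)
    have hle := hsupp p hps
    have hI₀ : ¬ I ≤ p₀.asIdeal := fun h => hp (h.trans hle)
    obtain ⟨r, hr, hpr, hIr, har⟩ := hgood.resolve_left hI₀
    have hdim := hM _ hp₀ (fun h => har (h.trans hpr)) hI₀ ⟨r, hr, hpr, hIr, har⟩ q.asIdeal
      (hle.trans hpq) hq
    rw [Bootstrap.dimBetween_eq hω p₀ q (hle.trans hpq)] at hdim
    have hdim' : d + 1 < (deg hω q - deg hω p₀).toNat := by exact_mod_cast hdim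
    by_cases h2 : deg hω p₀ + 2 ≤ deg hω p
    · exact Or.inl (lt_of_lt_of_le (by norm_num) (hd2 p hle h2))
    refine Or.inr ?_
    rw [Bootstrap.dimBetween_eq hω p q hpq]
    have hpq' := Degree.deg_le hω hpq
    rcases hle.eq_or_lt with rfl | hlt
    · refine lt_of_lt_of_le (b := (((deg hω q - deg hω p₀).toNat : ℕ) : WithBot ℕ∞))
        (by exact_mod_cast hdim') ?_
      exact le_add_of_nonneg_left (WithBot.coe_le_coe.2 bot_le)
    · have := Degree.deg_lt hω hlt
      refine lt_of_lt_of_le (b := ((1 + (deg hω q - deg hω p).toNat : ℕ) : WithBot ℕ∞))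
        (by exact_mod_cast (show d + 1 < 1 + (deg hω q - deg hω p).toNat by omega)) ?_
      rw [Nat.cast_add, Nat.cast_one]
      exact add_le_add (WithBot.coe_le_coe.2 (hd1 p hlt)) le_rfl
  · push Not at hgood
    refine ⟨0, fun n => ?_⟩
    rw [map_zero]
    refine (Sections.eq_zero_of_vanishNear (y n) fun p hp =>
      Sections.vanishNear_of_notMem_support (y n) hp fun hps => hp ?_).symm
    have h1 := hsupp p (Module.support_subset_of_surjective _ (Submodule.mkQ_surjective _) hps)
    have h2 : I ≤ p.asIdeal := fun c hc => p.isPrime.mem_of_pow_mem (n + 1)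
      (Module.annihilator_le_of_mem_support hps (Module.mem_annihilator.2 fun v => by
        obtain ⟨v, rfl⟩ := Submodule.Quotient.mk_surjective _ v
        rw [← Submodule.Quotient.mk_smul, Submodule.Quotient.mk_eq_zero]
        exact Submodule.smul_mem_smul (Ideal.pow_mem_pow hc _) Submodule.mem_top))
    exact hgood.2 p.asIdeal p.isPrime h1 h2

lemma associatedPrimes_pi {ι : Type u} [Fintype ι] {P : ι → Type u} [∀ j, AddCommGroup (P j)]
    [∀ j, Module A (P j)] {p : Ideal A} (hp : p ∈ associatedPrimes A (∀ j, P j)) :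
    ∃ j, p ∈ associatedPrimes A (P j) := by
  obtain ⟨hpp, x, hx⟩ := isAssociatedPrime_iff.1 hp
  have hle : (Finset.univ.inf fun j => (⊥ : Submodule A (P j)).colon {x j}) ≤ p := fun c hc => by
    rw [hx, Submodule.mem_colon_singleton, Submodule.mem_bot]
    funext j
    have := Submodule.mem_finsetInf.1 hc j (Finset.mem_univ j)
    rwa [Submodule.mem_colon_singleton, Submodule.mem_bot] at this
  obtain ⟨j, -, hj⟩ := hpp.inf_le'.1 hle
  refine ⟨j, isAssociatedPrime_iff.2 ⟨hpp, x j, le_antisymm (fun c hc => ?_) hj⟩⟩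
  rw [hx, Submodule.mem_colon_singleton, Submodule.mem_bot] at hc
  rw [Submodule.mem_colon_singleton, Submodule.mem_bot, ← Pi.smul_apply, hc, Pi.zero_apply]

/-- An embedding into a module all of whose formal sections over the complement of `V(a)` lift. -/
theorem exists_embedding [IsAdicComplete I A] {ω : Dual.D A} (hω : Dual.IsDualizing A ω) (hI : I ≤ a)
    {d : ℕ} (hd : LocCoh.CdLE A I d) (M : Type u) [AddCommGroup M] [Module A M] [Module.Finite A M]
    (hM : Cond I a d M) :
    ∃ (M'' : Type u) (_ : AddCommGroup M'') (_ : Module A M'') (_ : Module.Finite A M'')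
      (f : M →ₗ[A] M''), Function.Injective f ∧
      associatedPrimes A M'' ⊆ associatedPrimes A M ∧
      ∀ y : ∀ n, Formal2.HV A (Formal2.quotPow A I M n) 0 (U a),
        (∀ n, Formal2.HVmap A (Formal2.quotPowTrans A I M n) 0 (U a) (y (n + 1)) = y n) →
          ∃ x : Formal2.HV A M'' 0 (U a), ∀ n,
            Formal2.HVmap A (Formal2.quotPowπ A I M'' n) 0 (U a) x =
              Formal2.HVmap A (qmap I f n) 0 (U a) (y n) := by
  classical
  let ι := {p : PrimeSpectrum A // p.asIdeal ∈ associatedPrimes A M}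
  have : Finite ι := ((associatedPrimes.finite A M).preimage
    (fun x _ y _ h => PrimeSpectrum.ext h) :
      Set.Finite {p : PrimeSpectrum A | p.asIdeal ∈ associatedPrimes A M}).to_subtype
  have : Fintype ι := Fintype.ofFinite ι
  choose P iP₁ iP₂ iP₃ e hsupp hd1 hd2 hinj using fun j : ι => Reflexive.exists_component hω j.1 M
  refine ⟨∀ j, P j, inferInstance, inferInstance, inferInstance, LinearMap.pi e, ?_, ?_,
    fun y hy => ?_⟩
  · rw [← LinearMap.ker_eq_bot]
    by_contra hne
    have : Nontrivial (LinearMap.ker (LinearMap.pi e)) := Submodule.nontrivial_iff_ne_bot.2 hne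
    obtain ⟨p, hp⟩ := associatedPrimes.nonempty A (LinearMap.ker (LinearMap.pi e))
    obtain ⟨hpp, x, hx⟩ := isAssociatedPrime_iff.1 hp
    have hp' := associatedPrimes.subset_of_injective
      (LinearMap.ker (LinearMap.pi e)).injective_subtype hp
    refine hinj ⟨⟨p, hpp⟩, hp'⟩ x.1 (fun c => ?_) (congrFun (LinearMap.mem_ker.1 x.2) _)
    rw [show c ∈ p ↔ c • x = 0 by rw [hx, Submodule.mem_colon_singleton, Submodule.mem_bot]]
    exact Subtype.ext_iff
  · intro p hp
    obtain ⟨j, hj⟩ := associatedPrimes_pi hp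
    let p' : PrimeSpectrum A := ⟨p, IsAssociatedPrime.isPrime hj⟩
    have hs : p' ∈ Module.support A (P j) := by
      by_contra hs
      exact (one_le_depth_iff (P j) p').1 (by rw [depth_eq_top hs]; exact le_top) hj
    rcases (hsupp j p' hs).eq_or_lt with h | h
    · have h' : p = j.1.asIdeal := (congrArg PrimeSpectrum.asIdeal h).symm
      rw [h']
      exact j.2
    · exact absurd hj ((one_le_depth_iff (P j) p').1 (hd1 j p' h))
  · choose x hx using fun j : ι => exists_lift hω hI hd hM j.1 j.2 (P j) (hsupp j) (hd1 j) (hd2 j)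
      (fun n => Formal2.HVmap A (qmap I (e j) n) 0 (U a) (y n)) fun n => by
        rw [Sections.HVmap_comp, qmap_trans, ← Sections.HVmap_comp, hy]
    refine ⟨∑ j, Formal2.HVmap A (LinearMap.single A P j) 0 (U a) (x j), fun n => ?_⟩
    have h1 : ∀ j : ι, Formal2.HVmap A (Formal2.quotPowπ A I (∀ j, P j) n) 0 (U a)
        (Formal2.HVmap A (LinearMap.single A P j) 0 (U a) (x j)) =
          Formal2.HVmap A (qmap I (LinearMap.single A P j ∘ₗ e j) n) 0 (U a) (y n) := fun j => by
      rw [Sections.HVmap_comp, ← qmap_π, ← Sections.HVmap_comp, hx, Sections.HVmap_comp, qmap_comp]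
    rw [map_sum]
    simp_rw [h1]
    have h2 : qmap I (LinearMap.pi e) n = ∑ j, qmap I (LinearMap.single A P j ∘ₗ e j) n := by
      refine LinearMap.ext fun z => ?_
      obtain ⟨z, rfl⟩ := Submodule.Quotient.mk_surjective _ z
      rw [LinearMap.sum_apply]
      show Submodule.Quotient.mk (LinearMap.pi e z) =
        ∑ j, (I ^ (n + 1) • (⊤ : Submodule A (∀ j, P j))).mkQ (Pi.single j (e j z))
      rw [← map_sum, Finset.univ_sum_single]
      rfl
    rw [h2, Sections.HVmap_sum]

/-- The cokernel class. -/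
theorem exists_coker_class {M M'' : Type u} [AddCommGroup M] [Module A M] [AddCommGroup M'']
    [Module A M''] (f : M →ₗ[A] M'') {V : (AlgebraicGeometry.Spec (CommRingCat.of A)).Opens}
    (y : ∀ n, Formal2.HV A (Formal2.quotPow A I M n) 0 V) (x : Formal2.HV A M'' 0 V)
    (hx : ∀ n, Formal2.HVmap A (Formal2.quotPowπ A I M'' n) 0 V x =
      Formal2.HVmap A (qmap I f n) 0 V (y n)) (n : ℕ) :
    Formal2.HVmap A (Formal2.quotPowπ A I (M'' ⧸ LinearMap.range f) n) 0 V
      (Formal2.HVmap A (LinearMap.range f).mkQ 0 V x) = 0 := by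
  rw [Sections.HVmap_comp, ← qmap_π, ← Sections.HVmap_comp, hx, Sections.HVmap_comp, qmap_comp,
    show (LinearMap.range f).mkQ ∘ₗ f = 0 from LinearMap.range_mkQ_comp f]
  have h0 : qmap I (0 : M →ₗ[A] M'' ⧸ LinearMap.range f) n = 0 := LinearMap.ext fun z => by
    obtain ⟨z, rfl⟩ := Submodule.Quotient.mk_surjective _ z
    rfl
  rw [h0, Sections.HVmap_zero]

lemma compat {Q : ℕ → Type u} [∀ n, AddCommGroup (Q n)] [∀ n, Module A (Q n)]
    {V : (AlgebraicGeometry.Spec (CommRingCat.of A)).Opens} (t : ∀ n, Q (n + 1) →ₗ[A] Q n)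
    (T : ∀ {n m : ℕ}, n ≤ m → (Q m →ₗ[A] Q n)) (h0 : ∀ n, T (le_refl n) = LinearMap.id)
    (hs : ∀ {n m : ℕ} (h : n ≤ m), T h ∘ₗ t m = T (h.trans m.le_succ))
    (y : ∀ n, Formal2.HV A (Q n) 0 V) (hy : ∀ n, Formal2.HVmap A (t n) 0 V (y (n + 1)) = y n)
    {n m : ℕ} (h : n ≤ m) : Formal2.HVmap A (T h) 0 V (y m) = y n := by
  induction m, h using Nat.le_induction with
  | base => rw [h0, Sections.HVmap_id]
  | succ m h ih => rw [← ih, ← hy m, Sections.HVmap_comp, hs]

lemma tr_compat {M : Type u} [AddCommGroup M] [Module A M]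
    {V : (AlgebraicGeometry.Spec (CommRingCat.of A)).Opens}
    (y : ∀ n, Formal2.HV A (Formal2.quotPow A I M n) 0 V)
    (hy : ∀ n, Formal2.HVmap A (Formal2.quotPowTrans A I M n) 0 V (y (n + 1)) = y n)
    {n m : ℕ} (h : n ≤ m) :
    Formal2.HVmap A (tr I M (Nat.add_le_add_right h 1)) 0 V (y m) = y n := by
  induction m, h using Nat.le_induction with
  | base =>
    have e : tr I M (Nat.add_le_add_right (le_refl n) 1) = LinearMap.id := LinearMap.ext fun z => tr_self z
    exact (congrArg (fun g => Formal2.HVmap A g 0 V (y n)) e).trans (Sections.HVmap_id 0 _)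
  | succ m h ih =>
    refine Eq.trans ?_ ih
    refine (congrArg (fun g => Formal2.HVmap A g 0 V (y (m + 1))) (tr_quotPowTrans I M h)).trans ?_
    refine (Sections.HVmap_comp (Formal2.quotPowTrans A I M m) (tr I M (Nat.add_le_add_right h 1)) 0
      (y (m + 1))).symm.trans ?_
    exact congrArg (Formal2.HVmap A (tr I M (Nat.add_le_add_right h 1)) 0 V) (hy m)

lemma descent_aux {M M'' Q Ml Mn M''l : Type u} [AddCommGroup M] [Module A M] [AddCommGroup M'']
    [Module A M''] [AddCommGroup Q] [Module A Q] [AddCommGroup Ml] [Module A Ml] [AddCommGroup Mn]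
    [Module A Mn] [AddCommGroup M''l] [Module A M''l] {f : M →ₗ[A] M''} {πn : M →ₗ[A] Mn}
    {πl : M →ₗ[A] Ml} {π''l : M'' →ₗ[A] M''l} {qf : Ml →ₗ[A] M''l} {tr' : Ml →ₗ[A] Mn}
    {r : Ml →ₗ[A] Q} {t : Q →ₗ[A] Mn} {j : Q →ₗ[A] M''l}
    {V W : (AlgebraicGeometry.Spec (CommRingCat.of A)).Opens} (h : W ≤ V)
    (hj : Function.Injective j) (hjr : j ∘ₗ r = qf) (htr : tr' = t ∘ₗ r)
    (yl : Formal2.HV A Ml 0 V) (yn : Formal2.HV A Mn 0 V)
    (hyn : Formal2.HVmap A tr' 0 V yl = yn) (x : Formal2.HV A M'' 0 V) (x₀ : Formal2.HV A M 0 W)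
    (hπ : πn = t ∘ₗ r ∘ₗ πl) (hqπ : qf ∘ₗ πl = π''l ∘ₗ f)
    (hx : Formal2.HVmap A π''l 0 V x = Formal2.HVmap A qf 0 V yl)
    (hx₀ : Formal2.HVmap A f 0 W x₀ = Formal2.HVres A M'' 0 h x) :
    Formal2.HVres A Mn 0 h yn = Formal2.HVmap A πn 0 W x₀ := by
  rw [← hyn, htr, ← Sections.HVmap_comp r t, Sections.HVres_HVmap t h, hπ,
    ← Sections.HVmap_comp (r ∘ₗ πl) t]
  refine congrArg (Formal2.HVmap A t 0 W) ?_
  apply Sections.HVmap_injective hj
  rw [← Sections.HVres_HVmap j h, Sections.HVmap_comp r j, hjr, ← hx, Sections.HVres_HVmap π''l h,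
    ← hx₀, Sections.HVmap_comp f π''l, Sections.HVmap_comp (r ∘ₗ πl) j, ← LinearMap.comp_assoc, hjr,
    hqπ]

/-- Descending a class along an injection, using Artin–Rees. -/
theorem exists_descent {M M'' : Type u} [AddCommGroup M] [Module A M] [AddCommGroup M'']
    [Module A M''] [Module.Finite A M''] (f : M →ₗ[A] M'') (hf : Function.Injective f)
    {V W : (AlgebraicGeometry.Spec (CommRingCat.of A)).Opens} (h : W ≤ V)
    (y : ∀ n, Formal2.HV A (Formal2.quotPow A I M n) 0 V)
    (hy : ∀ n, Formal2.HVmap A (Formal2.quotPowTrans A I M n) 0 V (y (n + 1)) = y n)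
    (x : Formal2.HV A M'' 0 V)
    (hx : ∀ n, Formal2.HVmap A (Formal2.quotPowπ A I M'' n) 0 V x =
      Formal2.HVmap A (qmap I f n) 0 V (y n))
    (hz : Formal2.HVres A _ 0 h (Formal2.HVmap A (LinearMap.range f).mkQ 0 V x) = 0) :
    ∃ x₀ : Formal2.HV A M 0 W, ∀ n,
      Formal2.HVres A _ 0 h (y n) = Formal2.HVmap A (Formal2.quotPowπ A I M n) 0 W x₀ := by
  rw [Sections.HVres_HVmap] at hz
  obtain ⟨x₀, hx₀⟩ := Sections.exists_of_HVmap_eq_zero hf (Submodule.mkQ_surjective _)
    (LinearMap.exact_map_mkQ_range f) _ hz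
  refine ⟨x₀, fun n => ?_⟩
  obtain ⟨k, hk⟩ := I.exists_pow_inf_eq_pow_smul (LinearMap.range f)
  let l := n + k
  have hy' := tr_compat y hy (Nat.le_add_right n k)
  let K : Submodule A M := (I ^ (l + 1) • (⊤ : Submodule A M'')).comap f
  let j : (M ⧸ K) →ₗ[A] Formal2.quotPow A I M'' l := Submodule.mapQ K _ f le_rfl
  have hj : Function.Injective j := by
    rw [injective_iff_map_eq_zero]
    intro z hz
    obtain ⟨z, rfl⟩ := Submodule.Quotient.mk_surjective _ z
    exact (Submodule.Quotient.mk_eq_zero _).2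
      ((Submodule.Quotient.mk_eq_zero (I ^ (l + 1) • (⊤ : Submodule A M''))).1 hz)
  let r : Formal2.quotPow A I M l →ₗ[A] M ⧸ K := Submodule.mapQ _ K LinearMap.id (by
    rw [Submodule.comap_id, ← Submodule.map_le_iff_le_comap, Submodule.map_smul'']
    exact Submodule.smul_mono le_rfl le_top)
  have hK : K ≤ I ^ (n + 1) • ⊤ := fun v hv => by
    have h1 : f v ∈ (I ^ (l + 1) • (⊤ : Submodule A M'')) ⊓ LinearMap.range f := ⟨hv, ⟨v, rfl⟩⟩
    rw [hk (l + 1) (by omega), show l + 1 - k = n + 1 by omega] at h1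
    have h2 : f v ∈ (I ^ (n + 1) • (⊤ : Submodule A M)).map f := by
      rw [Submodule.map_smul'', Submodule.map_top]
      exact Submodule.smul_mono le_rfl inf_le_right h1
    obtain ⟨w, hw, hwv⟩ := h2
    exact hf hwv ▸ hw
  let t : (M ⧸ K) →ₗ[A] Formal2.quotPow A I M n :=
    Submodule.mapQ K _ LinearMap.id (by rw [Submodule.comap_id]; exact hK)
  have htr : tr I M (Nat.add_le_add_right (Nat.le_add_right n k) 1) = t ∘ₗ r :=
    LinearMap.ext fun z => by
      obtain ⟨z, rfl⟩ := Submodule.Quotient.mk_surjective _ z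
      rfl
  have hπ : Formal2.quotPowπ A I M n = t ∘ₗ r ∘ₗ Formal2.quotPowπ A I M l := rfl
  have hjr : j ∘ₗ r = qmap I f l := LinearMap.ext fun z => by
    obtain ⟨z, rfl⟩ := Submodule.Quotient.mk_surjective _ z
    rfl
  exact descent_aux h hj hjr htr (y (n + k)) (y n) hy' x x₀ hπ (qmap_π f l) (hx l) hx₀

/-- Injectivity near `V(I)`. -/
theorem exists_admissible_vanish {N : Type u} [AddCommGroup N] [Module A N] [Module.Finite A N]
    {U₀ V : (AlgebraicGeometry.Spec (CommRingCat.of A)).Opens} (hV : Formal2.Admissible A I U₀ V)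
    (z : Formal2.HV A N 0 V) (hz : ∀ n, Formal2.HVmap A (Formal2.quotPowπ A I N n) 0 V z = 0) :
    ∃ (V' : (AlgebraicGeometry.Spec (CommRingCat.of A)).Opens)
      (h : Formal2.Admissible A I U₀ V' ∧ V' ≤ V), Formal2.HVres A N 0 h.2 z = 0 := by
  obtain ⟨W, hW, h0, hmax⟩ := Sections.exists_zero_open z
  refine ⟨W, ⟨⟨hW.trans hV.1, fun p hp hpI => ?_⟩, hW⟩, h0⟩
  obtain ⟨W', h', hpW', h0'⟩ := Sections.vanishNear_of_quot I z hz (hV.2 p hp hpI) hpI
  exact hmax W' h' h0' hpW'

/-- Formal sections on the complement of `V(a)` come from sections near `V(I)`. -/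
theorem formal_colim [IsAdicComplete I A] {ω : Dual.D A} (hω : Dual.IsDualizing A ω) (hI : I ≤ a)
    {d : ℕ} (hd : LocCoh.CdLE A I d) (M : Type u) [AddCommGroup M] [Module A M] [Module.Finite A M]
    (hM : Cond I a d M) : Formal2.FormalCohColimBijective A I M 0 (U a) := by
  refine ⟨fun V hV x hx => exists_admissible_vanish hV x hx, fun y hy => ?_⟩
  obtain ⟨M'', _, _, _, f, hf, -, hlift⟩ := exists_embedding hω hI hd M hM
  obtain ⟨x, hx⟩ := hlift y hy
  obtain ⟨V', hV', h0⟩ := exists_admissible_vanish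
    (V := U a) (U₀ := U a) ⟨le_rfl, fun p hp _ => hp⟩ _ (exists_coker_class f y x hx)
  obtain ⟨x₀, hx₀⟩ := exists_descent f hf hV'.2 y hy x hx h0
  exact ⟨V', hV'.1, x₀, hx₀⟩

/-- A class killed modulo all powers of `I` vanishes if the relevant primes are not associated. -/
theorem eq_zero_of_quot {N : Type u} [AddCommGroup N] [Module A N] [Module.Finite A N]
    (z : Formal2.HV A N 0 (U a))
    (hz : ∀ n, Formal2.HVmap A (Formal2.quotPowπ A I N n) 0 (U a) z = 0)
    (h : ∀ P : PrimeSpectrum A, ¬ a ≤ P.asIdeal →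
      (∀ r : Ideal A, r.IsPrime → P.asIdeal ≤ r → I ≤ r → a ≤ r) →
        P.asIdeal ∉ associatedPrimes A N) : z = 0 := by
  refine Sections.eq_zero_of_associated z fun P hP hPU => ?_
  have hPa : ¬ a ≤ P.asIdeal := hPU
  by_cases hr : ∃ r : Ideal A, r.IsPrime ∧ P.asIdeal ≤ r ∧ I ≤ r ∧ ¬ a ≤ r
  · obtain ⟨r, hr, hPr, hIr, har⟩ := hr
    exact Sections.vanishNear_of_generization (r := ⟨r, hr⟩) hPr
      (Sections.vanishNear_of_quot I z hz har hIr)
  · push Not at hr
    exact absurd hP (h P hPa hr)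

/-- Formal sections on the complement of `V(a)` come from sections there. -/
theorem formal_depth_two [IsAdicComplete I A] {ω : Dual.D A} (hω : Dual.IsDualizing A ω) (hI : I ≤ a)
    {d : ℕ} (hd : LocCoh.CdLE A I d) (M : Type u) [AddCommGroup M] [Module A M] [Module.Finite A M]
    (hM : Cond I a d M)
    (h₃ : ∀ P : PrimeSpectrum A, ¬ a ≤ P.asIdeal →
      (∀ r : Ideal A, r.IsPrime → P.asIdeal ≤ r → I ≤ r → a ≤ r) → (2 : ℕ∞) ≤
        LocCoh.depth (Localization.AtPrime P.asIdeal) (LocalizedModule P.asIdeal.primeCompl M)) :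
    Formal2.FormalCohBijective A I M 0 (U a) := by
  have hAss : ∀ P : PrimeSpectrum A, ¬ a ≤ P.asIdeal →
      (∀ r : Ideal A, r.IsPrime → P.asIdeal ≤ r → I ≤ r → a ≤ r) →
        P.asIdeal ∉ associatedPrimes A M := fun P hP hr =>
    (one_le_depth_iff M P).1 (le_trans (by norm_num) (h₃ P hP hr))
  refine ⟨fun x x' h => sub_eq_zero.1 (eq_zero_of_quot (x - x')
    (fun n => by rw [map_sub, h n, sub_self]) hAss), fun y hy => ?_⟩
  obtain ⟨M'', _, _, _, f, hf, hsub, hlift⟩ := exists_embedding hω hI hd M hM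
  obtain ⟨x, hx⟩ := hlift y hy
  have h0 : Formal2.HVmap A (LinearMap.range f).mkQ 0 (U a) x = 0 :=
    eq_zero_of_quot _ (exists_coker_class f y x hx) fun P hP hr =>
      notMem_associatedPrimes_coker f hf P (h₃ P hP hr) fun hP' => hAss P hP hr (hsub hP')
  obtain ⟨x₀, hx₀⟩ := exists_descent f hf (le_refl (U a)) y hy x hx (by rw [h0, map_zero])
  exact ⟨x₀, fun n => ((hx₀ n).symm.trans (Sections.HVres_self (y n)))⟩

end Groth.Agent.Lib.PuncturedLC.Components
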