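import Groth.Agent.Lib.PuncturedLC.Bridge
import Groth.Agent.Lib.HensSch.FormalH0

/-!
# Completion is fully faithful where formal sections are sections
-/

universe u

open CategoryTheory CategoryTheory.Limits AlgebraicGeometry Opposite TopologicalSpace

attribute [local instance] HasDerivedCategory.standard

namespace Groth.Agent.Lib.PuncturedLC.Hom

open Groth.Agent.H78.Formal Groth.Agent.Lib

variable {A : Type u} [CommRing A] (U : (Spec (CommRingCat.of A)).Opens)

/-- Sections over `U` as an `A`-module. -/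
noncomputable def S : (U : Scheme.{u}).Modules ⥤ ModuleCat.{u} A :=
  Scheme.Modules.pushforward U.ι ⋙ moduleSpecΓFunctor (R := CommRingCat.of A)

/-- The sheaf of a module is left adjoint to sections. -/
noncomputable def adj : SectTower.Θ U ⊣ S U :=
  (tilde.adjunction (R := CommRingCat.of A)).comp (Scheme.Modules.restrictAdjunction U.ι)

variable {U}

/-- Global sections, in the module of sections over `U`. -/
noncomputable def se (G : (U : Scheme.{u}).Modules) : Γ(G, ⊤) ≃+ (S U).obj G := AddEquiv.refl _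

lemma se_map {G G' : (U : Scheme.{u}).Modules} (g : G ⟶ G') (x : Γ(G, ⊤)) :
    (S U).map g (se G x) = se G' (g.app ⊤ x) := rfl

/-- Pointwise lifts along jointly injective maps form a map. -/
theorem exists_lift {ι : Type*} {N W : ModuleCat.{u} A} {Y : ι → ModuleCat.{u} A} (p : ∀ n, W ⟶ Y n)
    (g : ∀ n, N ⟶ Y n) (hinj : ∀ x : W, (∀ n, p n x = 0) → x = 0)
    (hex : ∀ v : N, ∃ x, ∀ n, p n x = g n v) : ∃ L : N ⟶ W, ∀ n, L ≫ p n = g n := by
  choose x hx using hex
  refine ⟨ModuleCat.ofHom
    { toFun := x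
      map_add' := fun v w => sub_eq_zero.1 (hinj _ fun n => by
        rw [map_sub, map_add, hx, hx, hx, map_add, sub_self])
      map_smul' := fun c v => sub_eq_zero.1 (hinj _ fun n => by
        rw [map_sub, RingHom.id_apply, map_smul, hx, hx, map_smul, sub_self]) }, fun n => ?_⟩
  ext v
  exact hx v n

variable [IsNoetherianRing A]

/-- Morphisms from a coherent module are morphisms of completions. -/
theorem existsUnique_of_bijective (I : Ideal A) {E F : (U : Scheme.{u}).Modules} (hE : Coh.IsCoh E)
    (h : Function.Bijective (_root_.Formal.toHHlim I F 0))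
    (ψ : _root_.Formal.completion I E ⟶ _root_.Formal.completion I F) :
    ∃! φ : E ⟶ F, ∀ n : ℕ, _root_.Formal.modPowπ I (n + 1) E ≫ ψ.app (op n) =
      φ ≫ _root_.Formal.modPowπ I (n + 1) F := by
  obtain ⟨N, _, _, _, ⟨e⟩⟩ := Bridge.exists_model hE
  let g : ∀ n, E ⟶ _root_.Formal.modPow I (n + 1) F := fun n =>
    _root_.Formal.modPowπ I (n + 1) E ≫ ψ.app (op n)
  have hg : ∀ n, g (n + 1) ≫ _root_.Formal.modPowTrans I (n + 1) F = g n := fun n => by
    have := ψ.naturality (homOfLE (Nat.le_add_right n 1)).op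
    simp only [_root_.Formal.completion, Functor.ofOpSequence_map_homOfLE_succ] at this
    show (_root_.Formal.modPowπ I (n + 1 + 1) E ≫ ψ.app (op (n + 1))) ≫ _ = _
    refine (Category.assoc _ _ _).trans ((congrArg (_ ≫ ·) this.symm).trans ?_)
    refine (Category.assoc _ _ _).symm.trans (congrArg (· ≫ ψ.app (op n)) ?_)
    exact _root_.Formal.modPowπ_trans I (n + 1) E
  let hm := fun (G : (U : Scheme.{u}).Modules) (φ : E ⟶ G) => (adj U).homEquiv (ModuleCat.of A N) G (e.inv ≫ φ)
  have hnat : ∀ {G G' : (U : Scheme.{u}).Modules} (φ : E ⟶ G) (k : G ⟶ G'),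
      hm G' (φ ≫ k) = hm G φ ≫ (S U).map k := fun φ k => by
    simp only [hm]
    rw [← Category.assoc, Adjunction.homEquiv_naturality_right]
  let p := fun n => (S U).map (_root_.Formal.modPowπ I (n + 1) F)
  have hinj : ∀ x : (S U).obj F, (∀ n, p n x = 0) → x = 0 := fun x hx => by
    have := HensSch.FormalH0.injective_of_bijective h ((se F).symm x) fun n => hx n
    exact (se F).symm.injective (this.trans (map_zero _).symm)
  have hex : ∀ v : N, ∃ x : (S U).obj F, ∀ n, p n x = hm _ (g n) v := fun v => by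
    obtain ⟨s, hs⟩ := HensSch.FormalH0.surjective_of_bijective h
      (fun n => (se _).symm (hm _ (g n) v)) fun n => by
        have := congrArg (fun k => k v) ((congrArg (hm _) (hg n)).symm.trans (hnat (g (n + 1))
          (_root_.Formal.modPowTrans I (n + 1) F)))
        exact this.symm
    exact ⟨se F s, hs⟩
  obtain ⟨L, hL⟩ := exists_lift p (fun n => hm _ (g n)) hinj hex
  have hm_inj : ∀ (G : (U : Scheme.{u}).Modules), Function.Injective (hm G) := fun G φ φ' hh =>
    (cancel_epi e.inv).1 (((adj U).homEquiv _ G).injective hh)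
  let φ₀ : E ⟶ F := e.hom ≫ ((adj U).homEquiv _ _).symm L
  have hφ₀ : hm F φ₀ = L := (congrArg ((adj U).homEquiv _ _) (Iso.inv_hom_id_assoc e _)).trans
    (Equiv.apply_symm_apply _ _)
  refine ⟨φ₀, fun n => hm_inj _ ?_, fun φ hφ => hm_inj _ ?_⟩
  · exact ((hL n).symm.trans (by rw [← hφ₀])).trans (hnat φ₀ _).symm
  · rw [hφ₀]
    refine ModuleCat.hom_ext (LinearMap.ext fun v => sub_eq_zero.1 (hinj _ fun n => ?_))
    have e1 : hm F φ ≫ p n = L ≫ p n := ((hnat φ _).symm.trans (congrArg (hm _) (hφ n).symm)).trans (hL n).symm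
    rw [map_sub]
    exact sub_eq_zero.2 (congrArg (fun k => k v) e1)

end Groth.Agent.Lib.PuncturedLC.Hom
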