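import Groth.Agent.Lib.PuncturedLC.LocFree
import Groth.Agent.Lib.PuncturedLC.Hom
import Groth.Agent.Lib.Depth.LocalCoh
import Groth.Agent.Lib.Depth.Local
import Groth.Agent.Lib.CurveBundle.Coherent
import Groth.Agent.Lib.PuncturedLC.Components
import Groth.Prelude.Def_EGA4b
import Mathlib.RingTheory.Flat.EquationalCriterion

/-!
# Formal sections along a normally flat closed subset
-/

universe u

open CategoryTheory CategoryTheory.Limits AlgebraicGeometry Opposite TopologicalSpace

attribute [local instance] HasDerivedCategory.standard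

namespace Groth.Agent.Lib.PuncturedLC.Flat

open Groth.Agent.H78.Formal Groth.Agent.Lib Groth.Agent.Lib.ProZero.Complex Groth.Agent.Lib.ProZero.Seq

variable {B : Type u} [CommRing B] [IsNoetherianRing B] (a : Ideal B)

/-- A module with vanishing local cohomology in degrees `0` and `1` is its module of sections. -/
theorem res₀_bijective (M : Type u) [AddCommGroup M] [Module B M]
    (h : ∀ i < 2, Subsingleton (LocCoh.H a i M)) : Function.Bijective (res₀ a M) := by
  have hHa : ∀ i < 2, Subsingleton (Ha a i M) := fun i hi =>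
    have := h i hi
    (toLC a M i).toEquiv.subsingleton
  refine ⟨(injective_iff_map_eq_zero _).2 fun m hm => ?_, fun x => ?_⟩
  · obtain ⟨z, rfl⟩ := (exists_val₀_eq_iff a M m).2 ((res₀_eq_zero_iff a M m).1 hm)
    have := hHa 0 (by norm_num)
    rw [Subsingleton.elim z 0, map_zero]
  · have := hHa 1 (by norm_num)
    exact (ψ_zero_eq_zero_iff a M x).1 (Subsingleton.elim _ _)

/-- Direct summands of finite sums of copies of `N₀` have the vanishing of `N₀`. -/
theorem subsingleton_H_of_factor {N N₀ : Type u} [AddCommGroup N] [Module B N] [AddCommGroup N₀]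
    [Module B N₀] {k : ℕ} (f : N →ₗ[B] (Fin k → N₀)) (g : (Fin k → N₀) →ₗ[B] N)
    (hgf : ∀ v, g (f v) = v) (i : ℕ) (h : Subsingleton (LocCoh.H a i N₀)) :
    Subsingleton (LocCoh.H a i N) := by
  refine subsingleton_of_forall_eq 0 fun x => ?_
  have hsum : ModuleCat.ofHom (LinearMap.id : N →ₗ[B] N) = ∑ j : Fin k,
      (ModuleCat.ofHom ((LinearMap.proj j : (Fin k → N₀) →ₗ[B] N₀) ∘ₗ f) ≫
        ModuleCat.ofHom (g ∘ₗ LinearMap.single B (fun _ : Fin k => N₀) j)) := by
    ext v
    rw [ModuleCat.hom_sum, LinearMap.sum_apply]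
    show v = ∑ j, g (Pi.single j (f v j))
    rw [← map_sum, Finset.univ_sum_single, hgf]
  have e := LinearMap.congr_fun (LCFin.Seq.Hmap_id (I := a) (M := N) i) x
  refine e.symm.trans ((congrArg (fun t => ((localCohomology a i).map t).hom x) hsum).trans ?_)
  simp only [Functor.map_sum, Functor.map_comp, ModuleCat.hom_sum, ModuleCat.hom_comp,
    LinearMap.sum_apply, LinearMap.comp_apply]
  exact Finset.sum_eq_zero fun j _ => (congrArg _ (h.elim _ 0)).trans (map_zero _)

/-- The quotients by powers of a normally flat ideal have vanishing local cohomology. -/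
theorem subsingleton_H_quot (J : Ideal B) (hnf : EGA4.IsNormallyFlat J B) {i : ℕ}
    (h : Subsingleton (LocCoh.H a i (B ⧸ J))) (n : ℕ) :
    Subsingleton (LocCoh.H a i (B ⧸ (J ^ n • ⊤ : Submodule B B))) := by
  induction n with
  | zero =>
    have : Subsingleton (B ⧸ (J ^ 0 • ⊤ : Submodule B B)) :=
      Submodule.Quotient.subsingleton_iff.2 (by simp)
    exact subsingleton_H_of_factor (N₀ := B ⧸ J) a (k := 0) 0 0 (fun v => Subsingleton.elim _ _) i h
  | succ n ih =>
    let P : Submodule B B := J ^ n • ⊤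
    let N := ↥P ⧸ (J • (⊤ : Submodule B ↥P))
    have : Module.Flat (B ⧸ J) N := hnf n
    have : Module.Finite (B ⧸ J) N := Module.Finite.of_restrictScalars_finite B _ _
    have : Module.FinitePresentation (B ⧸ J) N := Module.finitePresentation_of_finite _ _
    have : Module.Projective (B ⧸ J) N := Module.Flat.projective_of_finitePresentation
    obtain ⟨k, g, hg⟩ := Module.Finite.exists_fin' (B ⧸ J) N
    obtain ⟨f, hf⟩ := Module.projective_lifting_property g LinearMap.id hg
    have hN := subsingleton_H_of_factor a (f.restrictScalars B) (g.restrictScalars B)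
      (LinearMap.congr_fun hf) i h
    have hle : (J ^ (n + 1) • ⊤ : Submodule B B) ≤ P :=
      Submodule.smul_mono_left (Ideal.pow_le_pow_right n.le_succ)
    have hmap : (J • (⊤ : Submodule B ↥P)).map P.subtype = (J ^ (n + 1) • ⊤ : Submodule B B) := by
      rw [Submodule.map_smul'', Submodule.map_top, Submodule.range_subtype, pow_succ',
        mul_smul]
    let ι : N →ₗ[B] B ⧸ (J ^ (n + 1) • ⊤ : Submodule B B) :=
      Submodule.mapQ _ _ P.subtype (Submodule.map_le_iff_le_comap.1 hmap.le)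
    let π : B ⧸ (J ^ (n + 1) • ⊤ : Submodule B B) →ₗ[B] B ⧸ P := Submodule.factor hle
    have hι : Function.Injective ι := (injective_iff_map_eq_zero _).2 fun v hv => by
      obtain ⟨v, rfl⟩ := Submodule.Quotient.mk_surjective _ v
      refine (Submodule.Quotient.mk_eq_zero _).2 ?_
      have h1 : v.1 ∈ (J • (⊤ : Submodule B ↥P)).map P.subtype :=
        hmap.ge ((Submodule.Quotient.mk_eq_zero _).1 hv)
      obtain ⟨w, hw, hwv⟩ := h1
      exact (Subtype.ext hwv : w = v) ▸ hw
    have hπ : Function.Surjective π := Submodule.factor_surjective hle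
    have hex : Function.Exact ι π := fun v => by
      obtain ⟨v, rfl⟩ := Submodule.Quotient.mk_surjective _ v
      refine ⟨fun hv => ⟨Submodule.Quotient.mk ⟨v, (Submodule.Quotient.mk_eq_zero _).1 hv⟩, rfl⟩, ?_⟩
      rintro ⟨w, hw⟩
      obtain ⟨w, rfl⟩ := Submodule.Quotient.mk_surjective _ w
      rw [← hw]
      exact (Submodule.Quotient.mk_eq_zero _).2 w.2
    refine subsingleton_of_forall_eq 0 fun x => ?_
    obtain ⟨y, rfl⟩ := (LCFin.Seq.exact_map_map a hι hπ hex i x).1 (ih.elim _ 0)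
    rw [hN.elim y 0, map_zero]

/-- Sections of `B` are the formal sections. -/
theorem coord_lift (J : Ideal B) [IsAdicComplete J B] (hq : ∀ (n : ℕ), ∀ i < 2,
      Subsingleton (LocCoh.H a i (B ⧸ (J ^ n • ⊤ : Submodule B B))))
    (y : ∀ n, Formal2.HV B (Formal2.quotPow B J B n) 0 (U a))
    (hy : ∀ n, Formal2.HVmap B (Formal2.quotPowTrans B J B n) 0 (U a) (y (n + 1)) = y n) :
    ∃ v : B, ∀ n, res₀ a _ (Formal2.quotPowπ B J B n v) = y n := by
  choose m hm using fun n => (res₀_bijective a _ (hq (n + 1))).2 (y n)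
  have hmc : ∀ n, Formal2.quotPowTrans B J B n (m (n + 1)) = m n := fun n =>
    (res₀_bijective a _ (hq (n + 1))).1 (by rw [← res₀_natural, hm, hy, hm])
  choose w hw using fun n => Submodule.Quotient.mk_surjective _ (m n)
  have hcs : ∀ {n l : ℕ}, n ≤ l → w l - w n ∈ (J ^ (n + 1) • ⊤ : Submodule B B) := fun {n l} hnl => by
    induction l, hnl using Nat.le_induction with
    | base => simp
    | succ l hl ih =>
      rw [show w (l + 1) - w n = (w (l + 1) - w l) + (w l - w n) by abel]
      refine add_mem (Submodule.smul_mono_left (Ideal.pow_le_pow_right (show n + 1 ≤ l + 1 by omega)) ?_) ih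
      refine (Submodule.Quotient.eq _).1 ?_
      have e := hmc l
      rw [← hw (l + 1), ← hw l] at e
      simpa [Formal2.quotPowTrans, Submodule.mapQ_apply] using e
  obtain ⟨L, hL⟩ := IsPrecomplete.prec (IsAdicComplete.toIsPrecomplete (I := J) (M := B)) (f := w)
    fun {p l} hpl => by
      rw [SModEq.sub_mem, ← neg_sub]
      exact neg_mem (Submodule.smul_mono_left (Ideal.pow_le_pow_right (Nat.le_succ p)) (hcs hpl))
  refine ⟨L, fun n => ?_⟩
  rw [← hm n, ← hw n]
  refine congrArg (res₀ a _) ((Submodule.Quotient.eq _).2 ?_)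
  rw [show L - w n = (w (n + 1) - w n) - (w (n + 1) - L) by abel]
  exact sub_mem (hcs n.le_succ) (SModEq.sub_mem.1 (hL (n + 1)))

/-- The induced map on quotients. -/
noncomputable abbrev qm (J : Ideal B) {M N : Type u} [AddCommGroup M] [Module B M] [AddCommGroup N]
    [Module B N] (f : M →ₗ[B] N) (n : ℕ) : Formal2.quotPow B J M n →ₗ[B] Formal2.quotPow B J N n :=
  Submodule.mapQ _ _ f (by
    rw [← Submodule.map_le_iff_le_comap, Submodule.map_smul'']
    exact Submodule.smul_mono le_rfl le_top)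

/-- Formal sections of a kernel of free modules that is a direct summand on the open. -/
theorem formalCohBijective_of_split (J : Ideal B) [IsAdicComplete J B]
    (hB : ∀ i < 2, Subsingleton (LocCoh.H a i B))
    (hq : ∀ (n : ℕ), ∀ i < 2, Subsingleton (LocCoh.H a i (B ⧸ (J ^ n • ⊤ : Submodule B B))))
    {ι κ : Type u} [Fintype ι] [Fintype κ] (ψ : (ι → B) →ₗ[B] (κ → B))
    (hsplit : ∀ p : PrimeSpectrum B, ¬ a ≤ p.asIdeal → ∃ c ∉ p.asIdeal, ∀ (n : ℕ) (x : ι → B),
      ψ x = 0 → x ∈ (J ^ n • ⊤ : Submodule B (ι → B)) →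
        ∃ z ∈ (J ^ n • ⊤ : Submodule B (LinearMap.ker ψ)), (z : ι → B) = c • x) :
    Formal2.FormalCohBijective B J (LinearMap.ker ψ) 0 (U a) := by
  classical
  let K := LinearMap.ker ψ
  let pr : ι → K →ₗ[B] B := fun l => LinearMap.proj l ∘ₗ K.subtype
  have hinjB : ∀ z : Formal2.HV B B 0 (U a),
      (∀ n, Formal2.HVmap B (Formal2.quotPowπ B J B n) 0 (U a) z = 0) → z = 0 := fun z hz => by
    obtain ⟨v, rfl⟩ := (res₀_bijective a B hB).2 z
    refine (congrArg _ (IsHausdorff.haus (IsAdicComplete.toIsHausdorff (I := J) (M := B)) v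
      fun n => ?_)).trans (map_zero _)
    rw [SModEq.zero]
    have h1 := hz n
    rw [res₀_natural] at h1
    have h2 := (res₀_bijective a _ (hq (n + 1))).1 (h1.trans (map_zero _).symm)
    exact Submodule.smul_mono_left (Ideal.pow_le_pow_right n.le_succ)
      ((Submodule.Quotient.mk_eq_zero _).1 h2)
  have hid : (∑ l, (LinearMap.single B (fun _ : ι => B) l) ∘ₗ pr l) = K.subtype := by
    refine LinearMap.ext fun v => ?_
    rw [LinearMap.sum_apply]
    exact Finset.univ_sum_single (v : ι → B)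
  refine ⟨fun x x' h => sub_eq_zero.1 (Sections.HVmap_injective (f := K.subtype) Subtype.val_injective
    ?_), fun y hy => ?_⟩
  · rw [map_zero, ← hid, Sections.HVmap_sum]
    refine Finset.sum_eq_zero fun l _ => ?_
    have hl : Formal2.HVmap B (pr l) 0 (U a) (x - x') = 0 := hinjB _ fun n => by
      rw [Sections.HVmap_comp, show Formal2.quotPowπ B J B n ∘ₗ pr l =
        qm J (pr l) n ∘ₗ Formal2.quotPowπ B J K n from rfl, ← Sections.HVmap_comp, map_sub, h n, sub_self,
        map_zero]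
    rw [← Sections.HVmap_comp, hl, map_zero]
  choose v hv using fun l => coord_lift a J hq (fun n => Formal2.HVmap B (qm J (pr l) n) 0 (U a) (y n))
    fun n => by
      have e : Formal2.quotPowTrans B J B n ∘ₗ qm J (pr l) (n + 1) =
          qm J (pr l) n ∘ₗ Formal2.quotPowTrans B J K n := LinearMap.ext fun z => by
        obtain ⟨z, rfl⟩ := Submodule.Quotient.mk_surjective _ z
        rfl
      rw [Sections.HVmap_comp, e, ← Sections.HVmap_comp, hy]
  let vv : ι → B := fun l => v l
  let sg := fun (l : ι) (n : ℕ) => qm J (LinearMap.single B (fun _ : ι => B) l) n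
  have hq' : ∀ n, Formal2.HVmap B (qm J K.subtype n) 0 (U a) (y n) =
      res₀ a _ (Formal2.quotPowπ B J (ι → B) n vv) := fun n => by
    have e : qm J K.subtype n = ∑ l, sg l n ∘ₗ qm J (pr l) n := LinearMap.ext fun z => by
      obtain ⟨z, rfl⟩ := Submodule.Quotient.mk_surjective _ z
      rw [LinearMap.sum_apply]
      show Submodule.Quotient.mk (z : ι → B) =
        ∑ l, (J ^ (n + 1) • (⊤ : Submodule B (ι → B))).mkQ (Pi.single l ((z : ι → B) l))
      rw [← map_sum, Finset.univ_sum_single]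
      rfl
    rw [e, Sections.HVmap_sum]
    have e2 : ∀ l, Formal2.HVmap B (sg l n ∘ₗ qm J (pr l) n) 0 (U a) (y n) =
        res₀ a _ (Formal2.quotPowπ B J (ι → B) n (Pi.single l (v l))) := fun l => by
      rw [← Sections.HVmap_comp, ← hv, res₀_natural]
      rfl
    simp_rw [e2]
    rw [← map_sum, ← map_sum, Finset.univ_sum_single]
  have hψ : ψ vv = 0 := funext fun j => by
    refine IsHausdorff.haus (IsAdicComplete.toIsHausdorff (I := J) (M := B)) _ fun n => ?_
    rw [SModEq.zero]
    refine Submodule.smul_mono_left (Ideal.pow_le_pow_right n.le_succ)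
      ((Submodule.Quotient.mk_eq_zero _).1 ((res₀_bijective a _ (hq (n + 1))).1 ?_))
    have e : qm J ((LinearMap.proj j : (κ → B) →ₗ[B] B) ∘ₗ ψ) n ∘ₗ qm J K.subtype n = 0 :=
      LinearMap.ext fun z => by
        obtain ⟨z, rfl⟩ := Submodule.Quotient.mk_surjective _ z
        show Submodule.Quotient.mk ((ψ (z : ι → B)) j) = 0
        rw [show ψ (z : ι → B) = 0 from z.2, Pi.zero_apply, Submodule.Quotient.mk_zero]
    have e2 := congrArg (Formal2.HVmap B (qm J ((LinearMap.proj j : (κ → B) →ₗ[B] B) ∘ₗ ψ) n) 0 (U a))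
      (hq' n)
    rw [Sections.HVmap_comp, e, Sections.HVmap_zero, res₀_natural] at e2
    rw [map_zero]
    exact e2.symm
  refine ⟨res₀ a K ⟨vv, hψ⟩, fun n => sub_eq_zero.1 ?_⟩
  let Q := LinearMap.ker (qm J K.subtype n)
  obtain ⟨w, hw⟩ := Sections.exists_of_HVmap_eq_zero (f := Q.subtype)
    (g := (qm J K.subtype n).rangeRestrict) Subtype.val_injective
    (qm J K.subtype n).surjective_rangeRestrict
    (fun z => by
      rw [Subtype.ext_iff]
      exact ⟨fun h => ⟨⟨z, h⟩, rfl⟩, fun ⟨w, hw⟩ => hw ▸ w.2⟩)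
    (Formal2.HVmap B (Formal2.quotPowπ B J K n) 0 (U a) (res₀ a K ⟨vv, hψ⟩) - y n)
    (Sections.HVmap_injective (f := (LinearMap.range (qm J K.subtype n)).subtype) Subtype.val_injective
      (by
        rw [map_zero, Sections.HVmap_comp,
          show (LinearMap.range (qm J K.subtype n)).subtype ∘ₗ (qm J K.subtype n).rangeRestrict =
            qm J K.subtype n from rfl, map_sub, hq', res₀_natural, res₀_natural]
        exact sub_self _))
  rw [← hw, Sections.eq_zero_of_vanishNear w fun p hp =>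
    Sections.vanishNear_of_notMem_support w hp fun hs => ?_, map_zero]
  obtain ⟨c, hc, hcz⟩ := hsplit p hp
  obtain ⟨⟨z, hz⟩, hz'⟩ := Module.mem_support_iff'.1 hs
  obtain ⟨z, rfl⟩ := Submodule.Quotient.mk_surjective _ z
  refine hz' c hc (Subtype.ext ?_)
  show c • Submodule.Quotient.mk z = (0 : Formal2.quotPow B J K n)
  rw [← Submodule.Quotient.mk_smul, Submodule.Quotient.mk_eq_zero]
  obtain ⟨z', hz'', he⟩ := hcz (n + 1) z z.2 ((Submodule.Quotient.mk_eq_zero _).1 (LinearMap.mem_ker.1 hz))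
  exact (Subtype.ext he : z' = c • z) ▸ hz''

/-- The hypotheses from depths. -/
theorem subsingleton_H_of_depth (M : Type u) [AddCommGroup M] [Module B M] [Module.Finite B M]
    (h : ∀ p : PrimeSpectrum B, a ≤ p.asIdeal →
      (2 : ℕ∞) ≤ LocCoh.depth (Localization.AtPrime p.asIdeal) (LocalizedModule p.asIdeal.primeCompl M)) :
    ∀ i < 2, Subsingleton (LocCoh.H a i M) := by
  refine (Depth.LocalCoh.le_idealDepth_iff_H a M 2).1 ?_
  rw [Depth.Local.idealDepth_eq_iInf]
  exact le_iInf₂ fun p hp => h p hp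

/-- Depths of `B/J`. -/
theorem depth_quot (J : Ideal B) (p : PrimeSpectrum B) :
    LocCoh.depth (Localization.AtPrime p.asIdeal) (LocalizedModule p.asIdeal.primeCompl (B ⧸ J)) =
      LocCoh.depth (Localization.AtPrime p.asIdeal)
        (Localization.AtPrime p.asIdeal ⧸ J.map (algebraMap B (Localization.AtPrime p.asIdeal))) :=
  Depth.Basic.depth_congr ((LocalizedModule.equivTensorProduct p.asIdeal.primeCompl (B ⧸ J)).trans
    (Algebra.TensorProduct.quotIdealMapEquivTensorQuot (Localization.AtPrime p.asIdeal) J).symm.toLinearEquiv)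

/-- A model that is a split kernel of free modules. -/
theorem exists_kernel_model {E : (↑(U a) : Scheme.{u}).Modules} (hE : FlatMod.IsFinLocFree E) (J : Ideal B)
    (M : Type u) [AddCommGroup M] [Module B M] [Module.Finite B M]
    (e : E ≅ (SectTower.Θ (U a)).obj (ModuleCat.of B M)) :
    ∃ (ι κ : Type u) (_ : Fintype ι) (_ : Fintype κ) (ψ : (ι → B) →ₗ[B] (κ → B)),
      (∀ p : PrimeSpectrum B, ¬ a ≤ p.asIdeal → ∃ c ∉ p.asIdeal, ∀ (n : ℕ) (x : ι → B),
        ψ x = 0 → x ∈ (J ^ n • ⊤ : Submodule B (ι → B)) →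
          ∃ z ∈ (J ^ n • ⊤ : Submodule B (LinearMap.ker ψ)), (z : ι → B) = c • x) ∧
      Nonempty (E ≅ (SectTower.Θ (U a)).obj (ModuleCat.of B (LinearMap.ker ψ))) := by
  classical
  obtain ⟨S, hS⟩ : ∃ S : Finset B, (∀ c ∈ S, ∃ (k : ℕ) (φ : M →ₗ[B] (Fin k → B))
      (ψ : (Fin k → B) →ₗ[B] M), ∀ m, ψ (φ m) = c • m) ∧
      ∀ p : PrimeSpectrum B, ¬ a ≤ p.asIdeal → ∃ c ∈ S, c ∉ p.asIdeal := by
    let good := {c : B | ∃ (k : ℕ) (φ : M →ₗ[B] (Fin k → B)) (ψ : (Fin k → B) →ₗ[B] M),
      ∀ m, ψ (φ m) = c • m}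
    obtain ⟨S, hS, e'⟩ := (Submodule.fg_span_iff_fg_span_finset_subset good).1
      (IsNoetherian.noetherian (Submodule.span B good))
    refine ⟨S, fun c hc => hS hc, fun p hp => ?_⟩
    obtain ⟨c, hc, k, φ, ψ, h⟩ := LocFree.exists_factor_of_mem hE M e p hp
    by_contra hno
    push Not at hno
    exact hc (Submodule.span_le.2 hno (e'.le (Submodule.subset_span ⟨k, φ, ψ, h⟩)))
  obtain ⟨hgood, hcov⟩ := hS
  choose k φ χ hχ using fun c : S => hgood c.1 c.2
  let ι := ULift.{u} (Σ c : S, Fin (k c))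
  let κ := ULift.{u} (S × (Σ c : S, Fin (k c)))
  let Φ : M →ₗ[B] (ι → B) := LinearMap.pi fun l => LinearMap.proj l.down.2 ∘ₗ φ l.down.1
  let χ' : S → (ι → B) →ₗ[B] M := fun c =>
    χ c ∘ₗ LinearMap.pi fun j => LinearMap.proj (ULift.up ⟨c, j⟩)
  have hχ' : ∀ c m, χ' c (Φ m) = (c : B) • m := fun c m => hχ c m
  let ψ : (ι → B) →ₗ[B] (κ → B) := LinearMap.pi fun jl =>
    LinearMap.proj (ULift.up jl.down.2) ∘ₗ (Φ ∘ₗ χ' jl.down.1 - (jl.down.1 : B) • LinearMap.id)
  have hψ : ∀ (c : S) (x : ι → B), ψ x = 0 → Φ (χ' c x) = (c : B) • x := fun c x hx => by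
    funext l
    have := congrFun hx (ULift.up (c, l.down))
    simpa [ψ, sub_eq_zero] using this
  have hΦ : ∀ m, ψ (Φ m) = 0 := fun m => by
    funext jl
    simp [ψ, hχ', map_smul]
  let q : ModuleCat.of B M ⟶ ModuleCat.of B (LinearMap.ker ψ) :=
    ModuleCat.ofHom (LinearMap.codRestrict (LinearMap.ker ψ) Φ fun m => LinearMap.mem_ker.2 (hΦ m))
  refine ⟨ι, κ, inferInstance, inferInstance, ψ, fun p hp => ?_, ⟨?_⟩⟩
  · obtain ⟨c, hc, hcp⟩ := hcov p hp
    refine ⟨c, hcp, fun n x hx hxJ => ⟨q.hom (χ' ⟨c, hc⟩ x), ?_, hψ ⟨c, hc⟩ x hx⟩⟩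
    have h1 : χ' ⟨c, hc⟩ x ∈ (J ^ n • ⊤ : Submodule B M) := by
      have := Submodule.mem_map_of_mem (f := χ' ⟨c, hc⟩) hxJ
      rw [Submodule.map_smul''] at this
      exact Submodule.smul_mono le_rfl le_top this
    have h2 := Submodule.mem_map_of_mem (f := q.hom) h1
    rw [Submodule.map_smul''] at h2
    exact Submodule.smul_mono le_rfl le_top h2
  have hz₁ : IsZero ((SectTower.Θ (U a)).obj (ModuleCat.of B (LinearMap.ker q.hom))) :=
    Model.isZero_of_support _ fun p hp hs => by
      obtain ⟨v, hv⟩ := Module.mem_support_iff'.1 hs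
      obtain ⟨c, hc, hcp⟩ := hcov p hp
      refine hv c hcp (Subtype.ext ?_)
      show c • (v : M) = 0
      rw [← hχ' ⟨c, hc⟩, show Φ (v : M) = 0 from congrArg Subtype.val v.2, map_zero]
  have hz₂ : IsZero ((SectTower.Θ (U a)).obj (ModuleCat.of B (LinearMap.ker ψ ⧸ LinearMap.range q.hom))) :=
    Model.isZero_of_support _ fun p hp hs => by
      obtain ⟨v, hv⟩ := Module.mem_support_iff'.1 hs
      obtain ⟨c, hc, hcp⟩ := hcov p hp
      obtain ⟨v, rfl⟩ := Submodule.Quotient.mk_surjective _ v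
      refine hv c hcp ((Submodule.Quotient.mk_eq_zero _).2 ⟨χ' ⟨c, hc⟩ v, Subtype.ext ?_⟩)
      exact hψ ⟨c, hc⟩ v v.2
  let S₁ : ShortComplex (ModuleCat.{u} B) := ShortComplex.mk (ModuleCat.ofHom (LinearMap.ker q.hom).subtype) q
    (ModuleCat.hom_ext (LinearMap.ext fun v => v.2))
  have hS₁ : S₁.Exact := (ShortComplex.ShortExact.moduleCat_exact_iff_function_exact S₁).2
    (LinearMap.exact_subtype_ker_map q.hom)
  let S₂ : ShortComplex (ModuleCat.{u} B) := ShortComplex.mk q (ModuleCat.ofHom (LinearMap.range q.hom).mkQ)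
    (ModuleCat.hom_ext (LinearMap.ext fun v => (Submodule.Quotient.mk_eq_zero _).2 ⟨v, rfl⟩))
  have hS₂ : S₂.Exact := (ShortComplex.ShortExact.moduleCat_exact_iff_function_exact S₂).2
    (LinearMap.exact_map_mkQ_range q.hom)
  have : Mono ((SectTower.Θ (U a)).map q) :=
    (Theta.exact_map (R := CommRingCat.of B) (U a) hS₁).mono_g (hz₁.eq_of_src _ _)
  have : Epi ((SectTower.Θ (U a)).map q) :=
    (Theta.exact_map (R := CommRingCat.of B) (U a) hS₂).epi_f (hz₂.eq_of_tgt _ _)
  have : IsIso ((SectTower.Θ (U a)).map q) := isIso_of_mono_of_epi _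
  exact e ≪≫ asIso ((SectTower.Θ (U a)).map q)

/-- Formal sections along a normally flat closed subset are sections. -/
theorem toHHlim_bijective (J : Ideal B) [IsAdicComplete J B] (hnf : EGA4.IsNormallyFlat J B)
    (V : (Spec (CommRingCat.of B)).Opens) (hV : V = U a)
    (h₁ : ∀ p : PrimeSpectrum B, a ≤ p.asIdeal → J ≤ p.asIdeal → (2 : ℕ∞) ≤
      LocCoh.depth (Localization.AtPrime p.asIdeal)
        (Localization.AtPrime p.asIdeal ⧸ J.map (algebraMap B (Localization.AtPrime p.asIdeal))))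
    (h₂ : ∀ p : PrimeSpectrum B, a ≤ p.asIdeal → (2 : ℕ∞) ≤
      LocCoh.depth (Localization.AtPrime p.asIdeal) (Localization.AtPrime p.asIdeal))
    (F : (↑V : Scheme.{u}).Modules) (hF : FlatMod.IsFinLocFree F) :
    Function.Bijective (_root_.Formal.toHHlim J F 0) := by
  subst hV
  obtain ⟨M, _, _, _, ⟨e⟩⟩ := Bridge.exists_model (CurveBundle.Coherent.isCoh hF)
  obtain ⟨ι, κ, _, _, ψ, hsplit, ⟨e'⟩⟩ := exists_kernel_model a hF J M e
  have hB := subsingleton_H_of_depth a B fun p hp => (h₂ p hp).trans_eq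
    (Depth.Basic.depth_congr ((LocalizedModule.equivTensorProduct p.asIdeal.primeCompl B).trans
      (TensorProduct.AlgebraTensorModule.rid B (Localization p.asIdeal.primeCompl)
        (Localization p.asIdeal.primeCompl)))).symm
  have hBJ : ∀ i < 2, Subsingleton (LocCoh.H a i (B ⧸ J)) := by
    refine subsingleton_H_of_depth a (B ⧸ J) fun p hp => ?_
    by_cases hpJ : J ≤ p.asIdeal
    · exact (h₁ p hp hpJ).trans_eq (depth_quot J p).symm
    · rw [Components.depth_eq_top fun hs => hpJ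
        ((Module.annihilator_le_of_mem_support hs).trans' (Ideal.annihilator_quotient (I := J)).ge)]
      exact le_top
  exact Bridge.toHHlim_bijective e' J 0 (formalCohBijective_of_split a J hB
    (fun n i hi => subsingleton_H_quot a J hnf (hBJ i hi) n) ψ hsplit)

end Groth.Agent.Lib.PuncturedLC.Flat
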