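import Groth.Agent.H78.Formal.SectLimit
import Groth.Agent.Lib.CohDelta.Basic
import Groth.Agent.Lib.PuncturedLC.Sections
import Groth.Agent.S2269
import Groth.Prelude.Def_CohPull

/-!
# `toHHlim` on an open of `Spec A` in terms of `H^i(U, M~)`
-/

universe u

open CategoryTheory CategoryTheory.Limits AlgebraicGeometry Opposite TopologicalSpace

attribute [local instance] HasDerivedCategory.standard

namespace Groth.Agent.Lib.PuncturedLC.Bridge

open Groth.Agent.H78.Formal Groth.Agent.H78.Formal.Sections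

variable {A : Type u} [CommRing A] {U : (Spec (CommRingCat.of A)).Opens}

/-- A quotient by `J M` gives a quotient by `J` of the sheaves on `U`. -/
theorem exists_isIso_desc {J : Ideal A} {M N : ModuleCat.{u} A} (p : M ⟶ N)
    (hs : Function.Surjective p.hom) (hk : LinearMap.ker p.hom = J • (⊤ : Submodule A M)) :
    ∃ h : _root_.Formal.smulFamily J ((SectTower.Θ U).obj M) ≫ (SectTower.Θ U).map p = 0,
      IsIso (cokernel.desc _ _ h) := by
  letI : (Spec (CommRingCat.of A)).Over (Spec (CommRingCat.of A)) := ⟨𝟙 _⟩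
  obtain ⟨h, hh⟩ := Algebraize.exists_isIso_desc_tilde' p hs hk
  exact PullSys.exists_isIso_desc_map (Canonical.hcompat U) (Scheme.Modules.restrictAdjunction U.ι) _ h

variable {M : Type u} [AddCommGroup M] [Module A M] {F : (U : Scheme.{u}).Modules}
  (e : F ≅ (SectTower.Θ U).obj (ModuleCat.of A M)) (I : Ideal A)

/-- The sheaf map of a linear map. -/
noncomputable abbrev th {N P : Type u} [AddCommGroup N] [Module A N] [AddCommGroup P] [Module A P]
    (f : N →ₗ[A] P) : (SectTower.Θ U).obj (ModuleCat.of A N) ⟶ (SectTower.Θ U).obj (ModuleCat.of A P) :=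
  (SectTower.Θ U).map (ModuleCat.ofHom f)

/-- `F/I^(n+1)F` is the sheaf of `M/I^(n+1)M`. -/
theorem exists_quot_iso (n : ℕ) :
    ∃ β : _root_.Formal.modPow I (n + 1) F ≅ (SectTower.Θ U).obj (ModuleCat.of A (Formal2.quotPow A I M n)),
      _root_.Formal.modPowπ I (n + 1) F ≫ β.hom = e.hom ≫ th (Formal2.quotPowπ A I M n) := by
  obtain ⟨h, hi⟩ := exists_isIso_desc (U := U) (J := I ^ (n + 1))
    (ModuleCat.ofHom (Formal2.quotPowπ A I M n)) (Submodule.mkQ_surjective _) (Submodule.ker_mkQ _)
  have h1 : _root_.Formal.smulFamily (I ^ (n + 1)) F ≫ e.hom ≫ th (Formal2.quotPowπ A I M n) = 0 :=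
    (PullSys.family_comp_iff _).2 fun c hc => by
      rw [← Category.assoc, smulMod_comp, Category.assoc, (PullSys.family_comp_iff _).1 h c hc,
        comp_zero]
  have h2 : _root_.Formal.smulFamily (I ^ (n + 1)) ((SectTower.Θ U).obj (ModuleCat.of A M)) ≫
      e.inv ≫ _root_.Formal.modPowπ I (n + 1) F = 0 :=
    (PullSys.family_comp_iff _).2 fun c hc => by
      rw [← Category.assoc, smulMod_comp, Category.assoc]
      exact (congrArg (e.inv ≫ ·) (smulMod_π (I ^ (n + 1)) F hc)).trans comp_zero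
  refine ⟨⟨cokernel.desc _ _ h1, inv (cokernel.desc _ _ h) ≫ cokernel.desc _ _ h2, ?_, ?_⟩,
    cokernel.π_desc _ _ h1⟩
  · refine coequalizer.hom_ext ?_
    refine (Category.assoc _ _ _).symm.trans ((congrArg (· ≫ _) (cokernel.π_desc _ _ h1)).trans ?_)
    refine Eq.trans ?_ (Category.comp_id _).symm
    have e1 : th (Formal2.quotPowπ A I M n) ≫ inv (cokernel.desc _ _ h) =
        cokernel.π (_root_.Formal.smulFamily (I ^ (n + 1)) ((SectTower.Θ U).obj (ModuleCat.of A M))) := by
      rw [IsIso.comp_inv_eq]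
      exact (cokernel.π_desc _ _ h).symm
    rw [Category.assoc, ← Category.assoc (th _), e1, cokernel.π_desc, Iso.hom_inv_id_assoc]
    rfl
  · refine (Category.assoc _ _ _).trans (((IsIso.inv_comp_eq _).2 ?_).trans rfl)
    refine Eq.trans ?_ (Category.comp_id _).symm
    refine coequalizer.hom_ext ?_
    refine (Category.assoc _ _ _).symm.trans ((congrArg (· ≫ _) (cokernel.π_desc _ _ h2)).trans ?_)
    refine Eq.trans ?_ (cokernel.π_desc _ _ h).symm
    refine (Category.assoc _ _ _).trans ((congrArg (e.inv ≫ ·) (cokernel.π_desc _ _ h1)).trans ?_)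
    exact Iso.inv_hom_id_assoc _ _

/-- The identification on cohomology. -/
noncomputable def κ (N : Type u) [AddCommGroup N] [Module A N] (p : ℕ) :
    Coh.HH (U : Scheme.{u}) ((SectTower.Θ U).obj (ModuleCat.of A N)) p ≃+ Formal2.HV A N p U :=
  CohDelta.Basic.hU (Formal2.tmod A N) U p

lemma κ_map {N P : Type u} [AddCommGroup N] [Module A N] [AddCommGroup P] [Module A P]
    (f : N →ₗ[A] P) (p : ℕ) (x : Coh.HH (U : Scheme.{u}) ((SectTower.Θ U).obj (ModuleCat.of A N)) p) :
    κ P p (CohPull.mapH (th f) p x) = Formal2.HVmap A f p U (κ N p x) :=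
  CohDelta.Basic.hU_mapH (Formal2.tmodMap A f) U p x

lemma mapH_comp {X : Scheme.{u}} {P Q R : X.Modules} (f : P ⟶ Q) (g : Q ⟶ R) (p : ℕ)
    (x : Coh.HH X P p) : CohPull.mapH g p (CohPull.mapH f p x) = CohPull.mapH (f ≫ g) p x :=
  _root_.Formal.HHmap_comp f g p x

lemma mapH_id {X : Scheme.{u}} {P : X.Modules} (p : ℕ)
    (x : Coh.HH X P p) : CohPull.mapH (𝟙 P) p x = x := by
  refine (congrArg (fun t => Sheaf.H.map t p x) ((SheafOfModules.toSheaf _).map_id P)).trans ?_
  exact Sheaf.H.map_id_apply x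

/-- An isomorphism of modules on cohomology. -/
noncomputable def mapE {X : Scheme.{u}} {P Q : X.Modules} (φ : P ≅ Q) (p : ℕ) :
    Coh.HH X P p ≃+ Coh.HH X Q p :=
  { CohPull.mapH φ.hom p with
    invFun := CohPull.mapH φ.inv p
    left_inv := fun x => by
      show CohPull.mapH φ.inv p (CohPull.mapH φ.hom p x) = x
      rw [mapH_comp, Iso.hom_inv_id, mapH_id]
    right_inv := fun x => by
      show CohPull.mapH φ.hom p (CohPull.mapH φ.inv p x) = x
      rw [mapH_comp, Iso.inv_hom_id, mapH_id] }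

include e in
/-- The comparison of `F` is that of `M`. -/
theorem toHHlim_injective (p : ℕ)
    (h : ∀ x x' : Formal2.HV A M p U, (∀ n, Formal2.HVmap A (Formal2.quotPowπ A I M n) p U x =
      Formal2.HVmap A (Formal2.quotPowπ A I M n) p U x') → x = x') :
    Function.Injective (_root_.Formal.toHHlim I F p) := by
  choose β hβ using exists_quot_iso e I
  intro x y hxy
  apply (mapE e p).injective
  apply (κ M p).injective
  refine h _ _ fun n => ?_
  have key : ∀ z, Formal2.HVmap A (Formal2.quotPowπ A I M n) p U (κ M p (mapE e p z)) =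
      κ _ p (mapE (β n) p (_root_.Formal.toHHmodPow I F p n z)) := fun z => by
    refine (κ_map _ _ _).symm.trans (congrArg (κ _ p) ?_)
    show CohPull.mapH (th _) p (CohPull.mapH e.hom p z) =
      CohPull.mapH (β n).hom p (CohPull.mapH (_root_.Formal.modPowπ I (n + 1) F) p z)
    rw [mapH_comp, mapH_comp, hβ]
  rw [key, key]
  exact congrArg (fun w => κ _ p (mapE (β n) p w)) (congrFun (congrArg Subtype.val hxy) n)

include e in
/-- The comparison of `F` is that of `M`. -/
theorem toHHlim_bijective (p : ℕ) (h : Formal2.FormalCohBijective A I M p U) :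
    Function.Bijective (_root_.Formal.toHHlim I F p) := by
  refine ⟨toHHlim_injective e I p h.1, fun y => ?_⟩
  choose β hβ using exists_quot_iso e I
  have htr : ∀ n, _root_.Formal.modPowTrans I (n + 1) F ≫ (β n).hom =
      (β (n + 1)).hom ≫ th (Formal2.quotPowTrans A I M n) := fun n => by
    refine coequalizer.hom_ext ?_
    show _root_.Formal.modPowπ I (n + 1 + 1) F ≫ _ = _root_.Formal.modPowπ I (n + 1 + 1) F ≫ _
    rw [← Category.assoc, _root_.Formal.modPowπ_trans, hβ, ← Category.assoc, hβ, Category.assoc]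
    refine congrArg (e.hom ≫ ·) ?_
    rw [th, th, th, ← Functor.map_comp]
    rfl
  obtain ⟨x, hx⟩ := h.2 (fun n => κ _ p (mapE (β n) p (y.1 n))) fun n => by
    refine (κ_map _ _ _).symm.trans (congrArg (κ _ p) ?_)
    show CohPull.mapH (th _) p (CohPull.mapH (β (n + 1)).hom p (y.1 (n + 1))) =
      CohPull.mapH (β n).hom p (y.1 n)
    rw [mapH_comp, ← htr, ← mapH_comp]
    exact congrArg (CohPull.mapH (β n).hom p) (y.2 n)
  refine ⟨(mapE e p).symm ((κ M p).symm x), Subtype.ext (funext fun n => ?_)⟩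
  apply (mapE (β n) p).injective
  apply (κ _ p).injective
  refine Eq.trans ?_ (hx n)
  have : ∀ z, κ _ p (mapE (β n) p (_root_.Formal.toHHmodPow I F p n z)) =
      Formal2.HVmap A (Formal2.quotPowπ A I M n) p U (κ M p (mapE e p z)) := fun z => by
    refine (congrArg (κ _ p) ?_).trans (κ_map _ _ _)
    show CohPull.mapH (β n).hom p (CohPull.mapH (_root_.Formal.modPowπ I (n + 1) F) p z) =
      CohPull.mapH (th _) p (CohPull.mapH e.hom p z)
    rw [mapH_comp, mapH_comp, hβ]
  refine (this _).trans ?_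
  rw [AddEquiv.apply_symm_apply, AddEquiv.apply_symm_apply]

/-- A coherent module on an open comes from a finite module. -/
theorem exists_model [IsNoetherianRing A] (hF : Coh.IsCoh F) :
    ∃ (M : Type u) (_ : AddCommGroup M) (_ : Module A M) (_ : Module.Finite A M),
      Nonempty (F ≅ (SectTower.Θ U).obj (ModuleCat.of A M)) := by
  obtain ⟨M, i₁, i₂, hM, hi⟩ := (Groth.Agent.S2269.result A U F).1 hF
  exact ⟨M, i₁, i₂, hM, hi⟩

end Groth.Agent.Lib.PuncturedLC.Bridge
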