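import Groth.Agent.Lib.PuncturedLC.Model
import Groth.Agent.Lib.RefHull.LocFree
import Groth.Agent.Lib.Perfect.FreeNear
import Groth.Agent.Lib.ExtShStalk.Vanish

/-!
# Models of finite locally free modules on an open of `Spec A`
-/

universe u

open CategoryTheory CategoryTheory.Limits AlgebraicGeometry Opposite TopologicalSpace

attribute [local instance] HasDerivedCategory.standard

namespace Groth.Agent.Lib.PuncturedLC.LocFree

open Groth.Agent.H78.Formal Groth.Agent.Lib

/-- A localisation that is free factors the module through a free module up to a denominator. -/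
theorem exists_factor {R : Type u} [CommRing R] (S : Submonoid R) (Rs : Type u) [CommRing Rs] [Algebra R Rs]
    [IsLocalization S Rs] {M Ms : Type u} [AddCommGroup M] [Module R M] [Module.FinitePresentation R M]
    [AddCommGroup Ms] [Module R Ms] [Module Rs Ms] [IsScalarTower R Rs Ms] (f : M →ₗ[R] Ms)
    [IsLocalizedModule S f] [Module.Free Rs Ms] :
    ∃ c ∈ S, ∃ (k : ℕ) (φ : M →ₗ[R] (Fin k → R)) (ψ : (Fin k → R) →ₗ[R] M), ∀ m, ψ (φ m) = c • m := by
  classical
  have : Module.Finite Rs Ms := Module.Finite.of_isLocalizedModule S f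
  by_cases htriv : Subsingleton Rs
  · have := Module.subsingleton Rs Ms
    obtain ⟨c, hc⟩ := Module.Finite.exists_smul_of_comp_eq_of_isLocalizedModule S f
      (LinearMap.id : M →ₗ[R] M) 0 (LinearMap.ext fun m => Subsingleton.elim _ _)
    exact ⟨c, c.2, 0, 0, 0, fun m => by
      have := LinearMap.congr_fun hc m
      simpa [Submonoid.smul_def, eq_comm] using this⟩
  have : Nontrivial Rs := not_subsingleton_iff_nontrivial.1 htriv
  let b := Module.finBasis Rs Ms
  set k := Module.finrank Rs Ms
  choose φ s hφ using fun j => Module.FinitePresentation.exists_lift_of_isLocalizedModule S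
    (Algebra.linearMap R Rs) (((b.coord j).restrictScalars R) ∘ₗ f)
  choose p hp using fun j => IsLocalizedModule.surj S f (b j)
  let e : Fin k → S := fun j => ∏ l ∈ Finset.univ.erase j, s l * (p l).2
  let T : S := ∏ l, s l * (p l).2
  let Φ : M →ₗ[R] (Fin k → R) := LinearMap.pi fun j => (e j : R) • φ j
  let Ψ : (Fin k → R) →ₗ[R] M := Fintype.linearCombination R fun j => (p j).1
  have key : f ∘ₗ (Ψ ∘ₗ Φ) = f ∘ₗ ((T : R) • LinearMap.id) := LinearMap.ext fun m => by
    have h1 : ∀ j, algebraMap R Rs (φ j m) = (s j : R) • b.coord j (f m) := fun j => LinearMap.congr_fun (hφ j) m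
    simp only [Ψ, Φ, LinearMap.comp_apply, Fintype.linearCombination_apply, LinearMap.pi_apply,
      LinearMap.smul_apply, map_sum, map_smul, LinearMap.id_apply, smul_eq_mul]
    conv_rhs => rw [← b.sum_repr (f m), Finset.smul_sum]
    refine Finset.sum_congr rfl fun j _ => ?_
    rw [← hp j, Submonoid.smul_def, ← algebraMap_smul Rs ((e j : R) * φ j m),
      ← algebraMap_smul Rs ((p j).2 : R), smul_smul, ← algebraMap_smul Rs (T : R), smul_smul]
    congr 1
    rw [map_mul, h1, Algebra.smul_def, show (T : R) = (e j : R) * ((s j : R) * ((p j).2 : R)) by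
      simp only [T, e]
      rw [← Finset.prod_erase_mul _ _ (Finset.mem_univ j)]
      simp, map_mul, map_mul, Module.Basis.coord_apply]
    ring
  obtain ⟨c, hc⟩ := Module.Finite.exists_smul_of_comp_eq_of_isLocalizedModule S f _ _ key
  refine ⟨(c : R) * T, S.mul_mem c.2 T.2, k, (c : R) • Φ, Ψ, fun m => ?_⟩
  have := LinearMap.congr_fun hc m
  simp only [LinearMap.smul_apply, LinearMap.comp_apply, LinearMap.id_apply, Submonoid.smul_def] at this ⊢
  rw [map_smul, this, smul_smul]
variable {A : Type u} [CommRing A] {U : (Spec (CommRingCat.of A)).Opens}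

/-- The stalks of a model of a finite locally free module are free. -/
theorem free_tilde_stalk {E : (U : Scheme.{u}).Modules} (hE : FlatMod.IsFinLocFree E) (M : Type u)
    [AddCommGroup M] [Module A M] (e : E ≅ (SectTower.Θ U).obj (ModuleCat.of A M)) (x : (U : Scheme.{u})) :
    Module.Free ((Spec (CommRingCat.of A)).presheaf.stalk (U.ι.base x))
      ((tilde (R := CommRingCat.of A) (ModuleCat.of A M)).presheaf.stalk (U.ι.base x)) := by
  let f₁ := Modules.StalkModule.stalkMapₗ e.hom x
  let f₂ := Modules.StalkModule.stalkMapₗ e.inv x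
  have h12 : ∀ v, f₂ (f₁ v) = v := fun v =>
    ConcreteCategory.congr_hom (((Modules.Stalk.stalkFunctor (U : Scheme.{u}) x).map_comp e.hom e.inv).symm.trans
      ((congrArg _ e.hom_inv_id).trans ((Modules.Stalk.stalkFunctor (U : Scheme.{u}) x).map_id _))) v
  have h21 : ∀ v, f₁ (f₂ v) = v := fun v =>
    ConcreteCategory.congr_hom (((Modules.Stalk.stalkFunctor (U : Scheme.{u}) x).map_comp e.inv e.hom).symm.trans
      ((congrArg _ e.inv_hom_id).trans ((Modules.Stalk.stalkFunctor (U : Scheme.{u}) x).map_id _))) v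
  have := RefHull.LocFree.free_stalk hE x
  exact (Perfect.FreeNear.free_stalk_restrict_iff U.ι _ x).1
    (Module.Free.of_equiv ({ f₁ with invFun := f₂, left_inv := h12, right_inv := h21 } :
      E.presheaf.stalk x ≃ₗ[(U : Scheme.{u}).presheaf.stalk x]
        ((SectTower.Θ U).obj (ModuleCat.of A M)).presheaf.stalk x))

/-- A module with free stalk factors through a free module up to a denominator. -/
theorem exists_factor_stalk (R : CommRingCat.{u}) (N : ModuleCat.{u} R) [Module.FinitePresentation R N]
    (y : Spec R) (hfree : Module.Free ((Spec R).presheaf.stalk y) ((tilde N).presheaf.stalk y)) :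
    ∃ c ∉ y.asIdeal, ∃ (k : ℕ) (φ : N →ₗ[R] (Fin k → R)) (ψ : (Fin k → R) →ₗ[R] N),
      ∀ m, ψ (φ m) = c • m := by
  let : Algebra R ((Spec R).presheaf.stalk y) := StructureSheaf.stalkAlgebra R y
  have : IsLocalization.AtPrime ((Spec R).presheaf.stalk y) y.asIdeal :=
    StructureSheaf.IsLocalization.to_stalk R y
  have : IsScalarTower R ((Spec R).presheaf.stalk y) ((tilde N).presheaf.stalk y) :=
    .of_algebraMap_smul fun _ _ => rfl
  exact exists_factor y.asIdeal.primeCompl ((Spec R).presheaf.stalk y) (tilde.toStalk N y).hom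

/-- The depth at a point with free stalk is at least that of the ring. -/
theorem depth_le_stalk (R : CommRingCat.{u}) [IsNoetherianRing R] (N : ModuleCat.{u} R) [Module.Finite R N]
    (y : Spec R) (hfree : Module.Free ((Spec R).presheaf.stalk y) ((tilde N).presheaf.stalk y)) :
    LocCoh.depth (Localization.AtPrime y.asIdeal) (Localization.AtPrime y.asIdeal) ≤
      LocCoh.depth (Localization.AtPrime y.asIdeal) (LocalizedModule y.asIdeal.primeCompl N) := by
  let : Algebra R ((Spec R).presheaf.stalk y) := StructureSheaf.stalkAlgebra R y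
  have : IsLocalization.AtPrime ((Spec R).presheaf.stalk y) y.asIdeal :=
    StructureSheaf.IsLocalization.to_stalk R y
  have : IsScalarTower R ((Spec R).presheaf.stalk y) ((tilde N).presheaf.stalk y) :=
    .of_algebraMap_smul fun _ _ => rfl
  have : IsNoetherianRing ((Spec R).presheaf.stalk y) :=
    IsLocalization.isNoetherianRing y.asIdeal.primeCompl _ ‹IsNoetherianRing R›
  have : Module.Finite ((Spec R).presheaf.stalk y) ((tilde N).presheaf.stalk y) :=
    Module.Finite.of_isLocalizedModule y.asIdeal.primeCompl (tilde.toStalk N y).hom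
  have h1 := ExtShDepth.depth_localization_eq y.asIdeal ((Spec R).presheaf.stalk y)
    ((tilde N).presheaf.stalk y) (tilde.toStalk N y).hom
  have h0 := ExtShDepth.depth_localization_eq (M := R) y.asIdeal ((Spec R).presheaf.stalk y)
    ((Spec R).presheaf.stalk y) (Algebra.linearMap R _)
  refine le_of_le_of_eq ?_ h1
  refine le_of_eq_of_le ?_ (ENat.forall_natCast_le_iff_le.1 fun d hd =>
    (ExtShStalk.Vanish.depth_le_depth_pi (R := (Spec R).presheaf.stalk y) _ hd).trans
      (Depth.Basic.depth_congr (Module.finBasis _ _).equivFun.symm).le)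
  refine Eq.trans ?_ h0.symm
  exact (Depth.Basic.depth_congr ((LocalizedModule.equivTensorProduct y.asIdeal.primeCompl R).trans
    (TensorProduct.AlgebraTensorModule.rid R (Localization y.asIdeal.primeCompl)
      (Localization y.asIdeal.primeCompl)))).symm

variable [IsNoetherianRing A] {E : (U : Scheme.{u}).Modules} (hE : FlatMod.IsFinLocFree E) (M : Type u)
  [AddCommGroup M] [Module A M] [Module.Finite A M] (e : E ≅ (SectTower.Θ U).obj (ModuleCat.of A M))
include hE e

/-- Near each point of `U` a model factors through a free module. -/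
theorem exists_factor_of_mem (p : PrimeSpectrum A) (hp : p ∈ U) :
    ∃ c ∉ p.asIdeal, ∃ (k : ℕ) (φ : M →ₗ[A] (Fin k → A)) (ψ : (Fin k → A) →ₗ[A] M),
      ∀ m, ψ (φ m) = c • m := by
  have : Module.FinitePresentation A M := Module.finitePresentation_of_finite A M
  have : Module.FinitePresentation (CommRingCat.of A) (ModuleCat.of A M) := this
  exact exists_factor_stalk (CommRingCat.of A) (ModuleCat.of A M) p (free_tilde_stalk hE M e ⟨p, hp⟩)

/-- The depths of a model at the points of `U` are at least those of the ring. -/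
theorem depth_le (p : PrimeSpectrum A) (hp : p ∈ U) :
    LocCoh.depth (Localization.AtPrime p.asIdeal) (Localization.AtPrime p.asIdeal) ≤
      LocCoh.depth (Localization.AtPrime p.asIdeal) (LocalizedModule p.asIdeal.primeCompl M) := by
  have : IsNoetherianRing (CommRingCat.of A) := ‹IsNoetherianRing A›
  have : Module.Finite (CommRingCat.of A) (ModuleCat.of A M) := ‹Module.Finite A M›
  exact depth_le_stalk (CommRingCat.of A) (ModuleCat.of A M) p (free_tilde_stalk hE M e ⟨p, hp⟩)

omit [IsNoetherianRing A] in
/-- Local cohomology of a model is killed by a power of an element of `a` if that of the ring is. -/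
theorem exists_pow_smul_H (a : Ideal A) [IsNoetherianRing A] (hU : ∀ p : PrimeSpectrum A, ¬ a ≤ p.asIdeal → p ∈ U)
    (f : A) (hf : f ∈ a) (i : ℕ) (h : ∃ n : ℕ, ∀ x : LocCoh.H a i A, f ^ n • x = 0) :
    ∃ n : ℕ, ∀ x : LocCoh.H a i M, f ^ n • x = 0 := by
  obtain ⟨n, hn⟩ := h
  let b : Ideal A :=
    { carrier := {c | ∀ x : LocCoh.H a i M, (c * f ^ n) • x = 0}
      add_mem' := fun {c d} hc hd x => by rw [add_mul, add_smul, hc, hd, add_zero]
      zero_mem' := fun x => by rw [zero_mul, zero_smul]
      smul_mem' := fun r c hc x => by rw [smul_eq_mul, mul_assoc, mul_smul, hc, smul_zero] }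
  have hb : a ≤ b.radical := by
    rw [Ideal.radical_eq_sInf]
    refine le_sInf fun P ⟨hbP, hP⟩ => ?_
    by_contra haP
    obtain ⟨c, hc, k, φ, ψ, hψ⟩ := exists_factor_of_mem hE M e ⟨P, hP⟩ (hU ⟨P, hP⟩ haP)
    refine hc (hbP fun x => ?_)
    let π := fun j : Fin k => (LinearMap.proj j : (Fin k → A) →ₗ[A] A) ∘ₗ φ
    let ι := fun j : Fin k => ψ ∘ₗ LinearMap.single A (fun _ : Fin k => A) j
    have hsum : ModuleCat.ofHom (LinearMap.lsmul A M c) =
        ∑ j, (ModuleCat.ofHom (π j) ≫ ModuleCat.ofHom (ι j)) := by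
      ext m
      rw [ModuleCat.hom_sum, LinearMap.sum_apply]
      show c • m = ∑ j, ψ (Pi.single j (φ m j))
      rw [← map_sum, Finset.univ_sum_single, hψ]
    rw [mul_smul, ← LCFin.Seq.Hmap_lsmul a i c]
    refine (congrArg (fun g => ((localCohomology a i).map g).hom (f ^ n • x)) hsum).trans ?_
    simp only [Functor.map_sum, Functor.map_comp, ModuleCat.hom_sum, ModuleCat.hom_comp,
      LinearMap.sum_apply, LinearMap.comp_apply]
    refine Finset.sum_eq_zero fun j _ => ?_
    rw [map_smul]
    exact (congrArg _ (hn _)).trans (map_zero _)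
  obtain ⟨K, hK⟩ := hb hf
  exact ⟨K + n, fun x => by rw [pow_add]; exact hK x⟩

end Groth.Agent.Lib.PuncturedLC.LocFree
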