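import Groth.Agent.Lib.PuncturedLC.Model
import Groth.Agent.Lib.Adic.Complete

/-!
# Formal cohomology on the complement of `V(a)` under a depth hypothesis
-/

universe u

open CategoryTheory CategoryTheory.Limits AlgebraicGeometry Opposite TopologicalSpace

attribute [local instance] HasDerivedCategory.standard

namespace Groth.Agent.Lib.PuncturedLC.FormalDepth

open Groth.Agent.Lib

variable {R A : Type u} [CommRing R] [IsRegularRing R] [CommRing A] [IsNoetherianRing A]
  (π : R →+* A) (hπ : Function.Surjective π)

include hπ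

/-- The comparison on `X = Spec A − V(a)` if the stalks at the points of relative codimension one
have depth at least `n + 1`. -/
theorem toHHlim_of_depth (t : A) [IsAdicComplete (Ideal.span {t}) A] (a : Ideal A)
    (V : (Spec (CommRingCat.of A)).Opens) (hV : V = U a)
    (F : (↑V : Scheme.{u}).Modules) (hF : Coh.IsCoh F) (hreg : Mono (_root_.Formal.smulMod A F t))
    (n : ℕ) (hdepth : ∀ x : (↑V : Scheme.{u}), SGA2.relCodim a (V.ι.base x) = 1 →
      ((n + 1 : ℕ) : ℕ∞) ≤ LocCoh.depth ((↑V : Scheme.{u}).presheaf.stalk x) (F.presheaf.stalk x))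
    (i : ℕ) :
    (i < n → Function.Bijective (_root_.Formal.toHHlim (Ideal.span {t}) F i)) ∧
      (i = n → Function.Injective (_root_.Formal.toHHlim (Ideal.span {t}) F i)) := by
  subst hV
  obtain ⟨M, _, _, _, hM, ⟨e⟩⟩ := Model.exists_regular_model hF t hreg
  have hfin : ∀ j ≤ n + 1, Module.Finite A (LocCoh.H a j M) :=
    (LCFin.FinitenessThm.finite_iff π hπ a M (n + 1)).2 fun p hp hc => by
      have h : p ∈ U a := hp
      have := hdepth ⟨p, h⟩ hc
      rwa [Model.depth_stalk M e ⟨p, h⟩ p rfl] at this
  have hctrl := ctrl_of_finite a t M hM n hfin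
  haveI : IsAdicComplete (Ideal.span {t}) M := Adic.Complete.isAdicComplete_of_finite
  refine ⟨fun hi => Bridge.toHHlim_bijective e _ i (hctrl.formalCohBijective i hi), ?_⟩
  rintro rfl
  refine Bridge.toHHlim_injective e _ i fun x x' h => sub_eq_zero.1 ?_
  exact injective hctrl i le_rfl _ fun m => by rw [map_sub, h m, sub_self]

end Groth.Agent.Lib.PuncturedLC.FormalDepth
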