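import Groth.Agent.Lib.PuncturedLC.Formal
import Groth.Agent.Lib.LCFin.Seq

/-!
# Pro-vanishing for a principal ideal whose powers annihilate local cohomology
-/

universe u

open CategoryTheory CategoryTheory.Limits Opposite

attribute [local instance] HasDerivedCategory.standard

namespace Groth.Agent.Lib.PuncturedLC

open Groth.Agent.Lib.ProZero.Complex Groth.Agent.Lib.ProZero.Seq

variable {A : Type u} [CommRing A] [IsNoetherianRing A] (a : Ideal A) (f : A) (M : Type u)
  [AddCommGroup M] [Module A M] [Module.Finite A M]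

/-- Pro-vanishing from annihilation by a power of `f`. -/
theorem pro_principal (s : ℕ) (h : ∀ i ≤ s + 1, ∃ n : ℕ, ∀ x : LocCoh.H a i M, f ^ n • x = 0) :
    Pro (Ideal.span {f}) a M s := by
  let I : Ideal A := Ideal.span {f}
  obtain ⟨c, hc⟩ := monotone_stabilizes_iff_noetherian.2 (inferInstance : IsNoetherian A M)
    ⟨fun n => LinearMap.ker ((f ^ n) • (LinearMap.id : M →ₗ[A] M)), fun n m hnm v hv => by
      obtain ⟨d, rfl⟩ := Nat.exists_eq_add_of_le hnm
      rw [LinearMap.mem_ker, LinearMap.smul_apply, LinearMap.id_apply] at hv ⊢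
      rw [pow_add, mul_comm, mul_smul, hv, smul_zero]⟩
  have hker : ∀ (k : ℕ), c ≤ k → ∀ v : M, f ^ k • v = 0 → f ^ c • v = 0 := fun k hk v hv =>
    LinearMap.mem_ker.1 ((hc k hk).ge (LinearMap.mem_ker.2
      (show ((f ^ k) • (LinearMap.id : M →ₗ[A] M)) v = 0 from hv)))
  have hmem : ∀ (k : ℕ) (v : M), v ∈ pw I M k ↔ ∃ w, f ^ k • w = v := fun k v => by
    rw [show pw I M k = (Ideal.span {f ^ k}) • (⊤ : Submodule A M) by
      rw [← Ideal.span_singleton_pow],
      Submodule.ideal_span_singleton_smul, Submodule.mem_smul_pointwise_iff_exists]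
    simp
  obtain ⟨N, hN⟩ : ∃ N : ℕ, ∀ i ≤ s + 1, ∀ x : Ha a i M, f ^ N • x = 0 := by
    choose n hn using h
    refine ⟨(Finset.range (s + 2)).attach.sup fun i => n i.1 (by
      have := Finset.mem_range.1 i.2; omega), fun i hi x => (toLC a M i).injective ?_⟩
    rw [map_smul, map_zero]
    obtain ⟨d, hd⟩ := Nat.exists_eq_add_of_le (Finset.le_sup
      (f := fun j : {j // j ∈ Finset.range (s + 2)} => n j.1 (by
        have := Finset.mem_range.1 j.2; omega))
      (Finset.mem_attach (Finset.range (s + 2)) ⟨i, Finset.mem_range.2 (by omega)⟩))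
    rw [hd, pow_add, mul_comm, mul_smul, hn i hi, smul_zero]
  intro n
  let n' := n + c
  let L := N + c
  let μ : M →ₗ[A] pw I M n' :=
    LinearMap.codRestrict _ ((f ^ n') • LinearMap.id) fun v => (hmem n' _).2 ⟨v, rfl⟩
  have hμ : Function.Surjective μ := fun v => by
    obtain ⟨w, hw⟩ := (hmem n' _).1 v.2
    exact ⟨w, Subtype.ext hw⟩
  let S : ShortComplex (ModuleCat.{u} A) :=
    ShortComplex.mk (ModuleCat.ofHom (LinearMap.ker μ).subtype) (ModuleCat.ofHom μ)
      (ModuleCat.hom_ext (LinearMap.exact_subtype_ker_map μ).linearMap_comp_eq_zero)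
  have hS : S.ShortExact :=
    { exact := (ShortComplex.ShortExact.moduleCat_exact_iff_function_exact _).2
        (LinearMap.exact_subtype_ker_map μ)
      mono_f := (ModuleCat.mono_iff_injective _).2 (Submodule.injective_subtype _)
      epi_g := (ModuleCat.epi_iff_surjective _).2 hμ }
  have hkill : ∀ i ≤ s + 1, ∀ y : Ha a i (pw I M n'), f ^ L • y = 0 := by
    intro i hi y
    have h1 : ((htDeltaSeq (PrimeSpectrum.zeroLocus (a : Set A))).δ hS i).hom (f ^ c • y) = 0 := by
      rw [map_smul]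
      refine smul_eq_zero_of_killed (N := LinearMap.ker μ) (fun z => Subtype.ext ?_) _ _
      exact hker n' (Nat.le_add_left _ _) z.1 (congrArg Subtype.val (LinearMap.mem_ker.1 z.2))
    obtain ⟨x, hx⟩ := ((htDeltaSeq (PrimeSpectrum.zeroLocus (a : Set A))).exact₃ hS i _).1 h1
    rw [show f ^ L • y = f ^ N • (f ^ c • y) by rw [← mul_smul, ← pow_add]]
    refine (congrArg (f ^ N • ·) hx.symm).trans ?_
    exact (map_smul _ _ _).symm.trans ((congrArg _ (hN i hi x)).trans (map_zero _))
  let e : pw I M n' →ₗ[A] pw I M (n' + L) :=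
    LinearMap.codRestrict _ ((f ^ L) • (pw I M n').subtype) fun v => by
      obtain ⟨w, hw⟩ := (hmem n' _).1 v.2
      exact (hmem _ _).2 ⟨w, by
        rw [LinearMap.smul_apply, Submodule.coe_subtype, ← hw, ← mul_smul, ← pow_add, add_comm L]⟩
  have he : Function.Bijective e := by
    refine ⟨(injective_iff_map_eq_zero _).2 fun v hv => ?_, fun v => ?_⟩
    · obtain ⟨w, hw⟩ := (hmem n' _).1 v.2
      have h1 : f ^ L • v.1 = 0 := congrArg Subtype.val hv
      rw [← hw, ← mul_smul, ← pow_add] at h1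
      have h2 := hker _ (by omega) w h1
      exact Subtype.ext (hw.symm.trans (by
        show f ^ (n + c) • w = 0
        rw [pow_add, mul_smul, h2, smul_zero]))
    · obtain ⟨w, hw⟩ := (hmem _ _).1 v.2
      exact ⟨⟨f ^ n' • w, (hmem n' _).2 ⟨w, rfl⟩⟩, Subtype.ext (by
        show f ^ L • f ^ n' • w = v.1
        rw [← hw, ← mul_smul, ← pow_add, add_comm L])⟩
  refine ⟨n' + L, by omega, fun i hi x => ?_⟩
  let ei := LinearEquiv.ofBijective e he
  obtain ⟨y, rfl⟩ : ∃ y, Hf a i e y = x := ⟨Hf a i ei.symm.toLinearMap x, by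
    refine (Hm_comp i _ _ _).trans ?_
    rw [show e ∘ₗ ei.symm.toLinearMap = LinearMap.id from
      LinearMap.ext fun z => ei.apply_symm_apply z]
    exact Hm_id i x⟩
  refine (Hm_comp i _ _ _).trans ?_
  rw [show incl I M (show n ≤ n' + L by omega) ∘ₗ e =
    incl I M (Nat.le_add_right n c) ∘ₗ LinearMap.lsmul A (pw I M n') (f ^ L) from
      LinearMap.ext fun z => Subtype.ext rfl, ← Hm_comp]
  have : Hf a i (LinearMap.lsmul A (pw I M n') (f ^ L)) y = f ^ L • y := by
    apply (toLC a _ i).injective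
    rw [toLC_natural, map_smul]
    exact LCFin.Seq.Hmap_lsmul a i (f ^ L) _
  rw [this, hkill i hi, map_zero]

omit [IsNoetherianRing A] [Module.Finite A M] in
/-- A power of `f ∈ a` kills `H^0_a` of a Noetherian module. -/
theorem exists_pow_smul_H_zero [IsNoetherianRing A] (hf : f ∈ a) [Module.Finite A M] :
    ∃ n : ℕ, ∀ x : LocCoh.H a 0 M, f ^ n • x = 0 := by
  obtain ⟨c, hc⟩ := monotone_stabilizes_iff_noetherian.2 (inferInstance : IsNoetherian A M)
    ⟨fun n => LinearMap.ker ((f ^ n) • (LinearMap.id : M →ₗ[A] M)), fun n m hnm v hv => by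
      obtain ⟨d, rfl⟩ := Nat.exists_eq_add_of_le hnm
      rw [LinearMap.mem_ker, LinearMap.smul_apply, LinearMap.id_apply] at hv ⊢
      rw [pow_add, mul_comm, mul_smul, hv, smul_zero]⟩
  refine ⟨c, fun x => ?_⟩
  obtain ⟨y, rfl⟩ := (toLC a M 0).surjective x
  rw [← map_smul, LinearEquiv.map_eq_zero_iff]
  apply val₀_injective a M
  rw [map_smul, map_zero]
  obtain ⟨k, hk⟩ := (exists_val₀_eq_iff a M _).1 ⟨y, rfl⟩
  exact LinearMap.mem_ker.1 ((hc (max c k) (le_max_left _ _)).ge (LinearMap.mem_ker.2 (by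
    show f ^ max c k • val₀ a M y = 0
    exact hk _ (Ideal.pow_le_pow_right (le_max_right _ _) (Ideal.pow_mem_pow hf _)))))

end Groth.Agent.Lib.PuncturedLC
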