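import Groth.Agent.Lib.PuncturedLC.Hom
import Groth.Agent.Lib.PuncturedLC.LocFree
import Groth.Agent.Lib.PuncturedLC.Principal
import Groth.Agent.Lib.PuncturedLC.Components
import Groth.Agent.Lib.LCFin.Cd
import Groth.Agent.Lib.CurveBundle.Coherent

/-!
# Full faithfulness of completion on vector bundles on the complement of `V(a)`
-/

universe u

open CategoryTheory CategoryTheory.Limits AlgebraicGeometry Opposite TopologicalSpace

attribute [local instance] HasDerivedCategory.standard

namespace Groth.Agent.Lib.PuncturedLC.FullyFaithful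

open Groth.Agent.H78.Formal Groth.Agent.Lib

variable {A : Type u} [CommRing A] [IsNoetherianRing A] (a : Ideal A)

/-- Morphisms of completions of bundles come from morphisms if formal sections are sections. -/
theorem hom_of_models (I : Ideal A)
    (h : ∀ (E : (↑(U a) : Scheme.{u}).Modules), FlatMod.IsFinLocFree E →
      ∀ (M : Type u) [AddCommGroup M] [Module A M] [Module.Finite A M],
        (E ≅ (SectTower.Θ (U a)).obj (ModuleCat.of A M)) → Formal2.FormalCohBijective A I M 0 (U a))
    (E E' : (↑(U a) : Scheme.{u}).Modules) (hE : FlatMod.IsFinLocFree E) (hE' : FlatMod.IsFinLocFree E')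
    (ψ : _root_.Formal.completion I E ⟶ _root_.Formal.completion I E') :
    ∃! φ : E ⟶ E', ∀ n : ℕ, _root_.Formal.modPowπ I (n + 1) E ≫ ψ.app (op n) =
      φ ≫ _root_.Formal.modPowπ I (n + 1) E' := by
  obtain ⟨M, _, _, _, ⟨e⟩⟩ := Bridge.exists_model (CurveBundle.Coherent.isCoh hE')
  exact Hom.existsUnique_of_bijective I (CurveBundle.Coherent.isCoh hE)
    (Bridge.toHHlim_bijective e I 0 (h E' hE' M e)) ψ

/-- The localisation of the ring as a module. -/
theorem depth_self (p : PrimeSpectrum A) :
    LocCoh.depth (Localization.AtPrime p.asIdeal) (Localization.AtPrime p.asIdeal) =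
      LocCoh.depth (Localization.AtPrime p.asIdeal) (LocalizedModule p.asIdeal.primeCompl A) :=
  (Depth.Basic.depth_congr ((LocalizedModule.equivTensorProduct p.asIdeal.primeCompl A).trans
    (TensorProduct.AlgebraTensorModule.rid A (Localization p.asIdeal.primeCompl)
      (Localization p.asIdeal.primeCompl)))).symm

/-- Full faithfulness under annihilation of `H^1` and `H^2` of the ring. -/
theorem of_killed (f : A) (hf : f ∈ a) [IsAdicComplete (Ideal.span {f}) A]
    (h₁ : ∃ n : ℕ, ∀ x : LocCoh.H a 1 A, f ^ n • x = 0)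
    (h₂ : ∃ n : ℕ, ∀ x : LocCoh.H a 2 A, f ^ n • x = 0)
    (E : (↑(U a) : Scheme.{u}).Modules) (hE : FlatMod.IsFinLocFree E) (M : Type u) [AddCommGroup M]
    [Module A M] [Module.Finite A M] (e : E ≅ (SectTower.Θ (U a)).obj (ModuleCat.of A M)) :
    Formal2.FormalCohBijective A (Ideal.span {f}) M 0 (U a) := by
  haveI : IsAdicComplete (Ideal.span {f}) M := Adic.Complete.isAdicComplete_of_finite
  refine formalCohBijective (pro_principal a f M 1 fun i hi => ?_) 0 le_rfl
  obtain rfl | rfl | rfl : i = 0 ∨ i = 1 ∨ i = 2 := by omega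
  · exact exists_pow_smul_H_zero a f M hf
  · exact LocFree.exists_pow_smul_H hE M e a (fun p hp => hp) f hf 1 h₁
  · exact LocFree.exists_pow_smul_H hE M e a (fun p hp => hp) f hf 2 h₂

/-- Full faithfulness under a condition on depth and dimension. -/
theorem of_depth_add_dim (f : A) (hf : f ∈ a) [IsAdicComplete (Ideal.span {f}) A] {ω : Dual.D A}
    (hω : Dual.IsDualizing A ω)
    (h : ∀ (p : Ideal A) [p.IsPrime], f ∉ p → ∀ (q : Ideal A) [q.IsPrime], p ≤ q → a ≤ q →
      ((2 : ℕ) : WithBot ℕ∞) < ((LocCoh.depth (Localization.AtPrime p) (Localization.AtPrime p) : ℕ∞) : WithBot ℕ∞) +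
        Formal2.dimBetween A p q)
    (E : (↑(U a) : Scheme.{u}).Modules) (hE : FlatMod.IsFinLocFree E) (M : Type u) [AddCommGroup M]
    [Module A M] [Module.Finite A M] (e : E ≅ (SectTower.Θ (U a)).obj (ModuleCat.of A M)) :
    Formal2.FormalCohBijective A (Ideal.span {f}) M 0 (U a) := by
  classical
  haveI : IsAdicComplete (Ideal.span {f}) M := Adic.Complete.isAdicComplete_of_finite
  have hI : Ideal.span {f} ≤ a := (Ideal.span_singleton_le_iff_mem _).2 hf
  have hd : LocCoh.CdLE A (Ideal.span {f}) 1 := by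
    have := LCFin.Cd.cdLE_card ({f} : Finset A)
    simpa using this
  refine formalCohBijective (Components.pro_of_cond hω hI hd M 1 fun p q hpq hp hq => Or.inr ?_) 0 le_rfl
  have hf' : f ∉ p.asIdeal := fun h => hp ((Ideal.span_singleton_le_iff_mem _).2 h)
  refine lt_of_lt_of_le (h p.asIdeal hf' q.asIdeal hpq hq) (add_le_add ?_ le_rfl)
  exact WithBot.coe_le_coe.2 (LocFree.depth_le hE M e p fun hap => hf' (hap hf))

/-- Full faithfulness from associated primes and depth two of the ring. -/
theorem of_dualizing {I : Ideal A} [IsAdicComplete I A] (hI : I ≤ a) {ω : Dual.D A}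
    (hω : Dual.IsDualizing A ω) {d : ℕ} (hd : LocCoh.CdLE A I d) (hA : Components.Cond I a d A)
    (h₃ : ∀ (p : Ideal A) [p.IsPrime], ¬ I ≤ p →
      (∀ (r : Ideal A), r.IsPrime → p ≤ r → I ≤ r → a ≤ r) →
        (2 : ℕ∞) ≤ LocCoh.depth (Localization.AtPrime p) (Localization.AtPrime p))
    (E : (↑(U a) : Scheme.{u}).Modules) (hE : FlatMod.IsFinLocFree E) (M : Type u) [AddCommGroup M]
    [Module A M] [Module.Finite A M] (e : E ≅ (SectTower.Θ (U a)).obj (ModuleCat.of A M)) :
    Formal2.FormalCohBijective A I M 0 (U a) := by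
  refine Components.formal_depth_two hω hI hd M (fun p hp hap hIp hr => ?_) fun P hP hr =>
    (h₃ P.asIdeal (fun hIP => hP (hr _ P.isPrime le_rfl hIP)) hr).trans (LocFree.depth_le hE M e P hP)
  refine hA p ?_ hap hIp hr
  by_contra hne
  let P : PrimeSpectrum A := ⟨p, hp.isPrime⟩
  exact (Components.one_le_depth_iff M P).1
    ((((Components.one_le_depth_iff A P).2 hne).trans_eq (depth_self P).symm).trans
      (LocFree.depth_le hE M e P hap)) hp

end Groth.Agent.Lib.PuncturedLC.FullyFaithful
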