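import Groth.Agent.Lib.Koszul.Stable.Supp
import Groth.Agent.Lib.Koszul.Stable.LC
import Groth.Agent.Lib.LocalCoh.Basic
import Groth.Agent.Lib.QCoh.Tilde
import Groth.Agent.Lib.CohDelta.Basic
import Groth.Agent.H20.TildeSections
import Groth.Prelude.Def_LocCohZ
import Mathlib.Algebra.Homology.DerivedCategory.Ext.Map

/-!
# `H^i_a(M) = H^i_{V(a)}(Spec A, M~)`, naturally in `M`
-/

universe u

open CategoryTheory CategoryTheory.Limits TopologicalSpace Opposite AlgebraicGeometry Abelian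

attribute [local instance] HasDerivedCategory.standard

namespace Groth.Agent.Lib.PuncturedLC

open Groth.Agent.Lib.LocalCoh Groth.Agent.H20.TildeSections

variable {A : Type u} [CommRing A] (a : Ideal A)

/-- `M ↦ M~` as a sheaf of abelian groups. -/
noncomputable abbrev G (A : Type u) [CommRing A] :
    ModuleCat.{u} A ⥤ CohTop.Ab (Spec (CommRingCat.of A)).toPresheafedSpace.carrier :=
  tilde.functor (CommRingCat.of A) ⋙ CohDelta.Basic.abF (Spec (CommRingCat.of A))

instance : PreservesFiniteColimits (tilde.functor (CommRingCat.of A)) :=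
  have : PreservesColimitsOfSize.{0, 0} (tilde.functor (CommRingCat.of A)) :=
    (QCoh.Tilde.specAdj (CommRingCat.of A)).leftAdjoint_preservesColimits
  PreservesColimitsOfSize.preservesFiniteColimits _

instance : PreservesFiniteLimits (G A) :=
  @comp_preservesFiniteLimits _ _ _ _ _ _ _ _
    (QCoh.Tilde.tildeFunctor_preservesFiniteLimits (R := CommRingCat.of A))
    (CohDelta.Basic.abF_preservesFiniteLimits _)
instance : PreservesFiniteColimits (G A) := comp_preservesFiniteColimits _ _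
instance : (G A).Additive :=
  Functor.additive_of_preserves_binary_products (G A)

/-- The open complement of `V(a)`. -/
noncomputable abbrev U : (Spec (CommRingCat.of A)).Opens := LocCoh.puncturedOpen A a

/-- Cohomology with supports in `V(a)`. -/
noncomputable abbrev HZa (M : ModuleCat.{u} A) (i : ℕ) : Type u :=
  LocCohZ.HZc (X := (Spec (CommRingCat.of A)).toPresheafedSpace.carrier) ((G A).obj M) i (U a)

/-- The section of a module element. -/
noncomputable def sec (M : ModuleCat.{u} A) (V : (Spec (CommRingCat.of A)).Opens) :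
    M →+ ((G A).obj M).obj.obj (op V) :=
  (toU M V).toAddMonoidHom

lemma sec_natural {M N : ModuleCat.{u} A} (f : M ⟶ N) (V : (Spec (CommRingCat.of A)).Opens) (m : M) :
    (((G A).map f).hom.app (op V)).hom (sec M V m) = sec N V (f.hom m) := by
  have h := LinearMap.congr_fun (congrArg ModuleCat.Hom.hom
    ((QCoh.Tilde.sectionsTildeIso (R := CommRingCat.of A)).hom.naturality f)) m
  have h' : (((G A).map f).hom.app (op ⊤)).hom (sec M ⊤ m) = sec N ⊤ (f.hom m) := h.symm
  have h2 := ConcreteCategory.congr_hom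
    (((G A).map f).hom.naturality (homOfLE (le_top : V ≤ ⊤)).op) (sec M ⊤ m)
  have hM := res_toU M (le_top : V ≤ ⊤) m
  have hN := res_toU N (le_top : V ≤ ⊤) (f.hom m)
  refine (congrArg (((G A).map f).hom.app (op V)).hom hM.symm).trans (h2.trans ?_)
  exact (congrArg (((G A).obj N).obj.map (homOfLE (le_top : V ≤ ⊤)).op).hom h').trans hN

lemma sec_top_bijective (M : ModuleCat.{u} A) : Function.Bijective (sec M ⊤) :=
  ((QCoh.Tilde.sectionsTildeIso (R := CommRingCat.of A)).app M).toLinearEquiv.bijective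

variable [IsNoetherianRing A]

lemma sec_U_eq_zero_iff (M : ModuleCat.{u} A) (m : M) :
    sec M (U a) m = 0 ↔ ∃ n : ℕ, ∀ c ∈ a ^ n, c • m = 0 := by
  constructor
  · intro h
    refine isPowerTorsion_of_forall a (IsNoetherian.noetherian a) fun g hg => ?_
    have h0 : toU M (D g) m = 0 := by
      rw [← res_toU M (basicOpen_le a hg), show toU M (LocCoh.puncturedOpen A a) m = 0 from h, map_zero]
    obtain ⟨⟨_, k, rfl⟩, hk⟩ :=
      (IsLocalizedModule.eq_zero_iff (Submonoid.powers g) (toU M (D g))).1 h0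
    exact ⟨k, hk⟩
  · rintro ⟨n, hn⟩
    refine LinearMap.mem_ker.1 ((ker_toU M a).ge (Submodule.mem_iSup_of_mem n ?_))
    exact (Submodule.mem_torsionBySet_iff _ _).2 fun c => hn c.1 c.2

omit [IsNoetherianRing A] in
lemma hom_eq_iff {V : (Spec (CommRingCat.of A)).Opens}
    {F : CohTop.Ab (Spec (CommRingCat.of A)).toPresheafedSpace.carrier}
    (φ ψ : CohCx.freeSheaf (Opens.grothendieckTopology _) V ⟶ F) :
    φ = ψ ↔ CohFree.evalGen _ V F φ = CohFree.evalGen _ V F ψ :=
  (Koszul.Stable.Supp.homSect F V).injective.eq_iff.symm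

variable {a}

/-- The class of `1` as a map `ℤ_X/ℤ_U → (A/a^n)~`. -/
noncomputable def gen (k : ℕᵒᵖᵒᵖ) :
    LocCohZ.zq (X := (Spec (CommRingCat.of A)).toPresheafedSpace.carrier) (le_top : U a ≤ ⊤) ⟶ (G A).obj ((quotSys a).obj k).unop :=
  cokernel.desc _ (CohFree.ofSect _ ⊤ _ (sec _ ⊤ (LocalCoh.gen a k))) (by
    refine (hom_eq_iff _ _).2 ?_
    rw [map_zero]
    refine (CohFree.evalGen_freeSheafMap_comp _ _ _ _).trans ?_
    rw [CohFree.evalGen_ofSect]
    refine (res_toU _ (le_top : U a ≤ ⊤) _).trans ((sec_U_eq_zero_iff a _ _).2 ⟨k.unop.unop, fun c hc => ?_⟩)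
    exact LocalCoh.smul_gen a k c hc)

lemma gen_eval (k : ℕᵒᵖᵒᵖ) {M : ModuleCat.{u} A} (φ : ((quotSys a).obj k).unop ⟶ M) :
    CohFree.evalGen _ ⊤ _ (cokernel.π (CohCx.freeSheafMap _ (homOfLE (le_top : U a ≤ ⊤))) ≫
      gen (a := a) k ≫ (G A).map φ) = sec M ⊤ (φ.hom (LocalCoh.gen a k)) := by
  rw [← Category.assoc, show gen (a := a) k = cokernel.desc _ _ _ from rfl, cokernel.π_desc]
  refine Eq.trans ?_ (sec_natural φ ⊤ _)
  have h := congrArg (((G A).map φ).hom.app (op ⊤)).hom (CohFree.evalGen_ofSect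
    (Opens.grothendieckTopology _) ⊤ ((G A).obj ((quotSys a).obj k).unop) (sec _ ⊤ (LocalCoh.gen a k)))
  exact Eq.trans rfl h

omit [IsNoetherianRing A] in
lemma zq_hom_ext {M : ModuleCat.{u} A} (φ ψ : LocCohZ.zq (X := (Spec (CommRingCat.of A)).toPresheafedSpace.carrier) (le_top : U a ≤ ⊤) ⟶ (G A).obj M)
    (h : CohFree.evalGen _ ⊤ _ (cokernel.π _ ≫ φ) = CohFree.evalGen _ ⊤ _ (cokernel.π _ ≫ ψ)) :
    φ = ψ :=
  (cancel_epi (cokernel.π (CohCx.freeSheafMap (Opens.grothendieckTopology _)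
    (homOfLE (le_top : U a ≤ ⊤))))).1 ((hom_eq_iff _ _).2 h)

lemma gen_map {k k' : ℕᵒᵖᵒᵖ} (g : k ⟶ k') :
    gen (a := a) k' ≫ (G A).map ((quotSys a).map g).unop = gen k := by
  refine zq_hom_ext _ _ ?_
  rw [gen_eval, LocalCoh.map_gen]
  have h := gen_eval (a := a) k (𝟙 ((quotSys a).obj k).unop)
  rw [(G A).map_id, Category.comp_id] at h
  exact h.symm

/-- The action of `M ↦ M~` on classes. -/
noncomputable abbrev mapG {X M : ModuleCat.{u} A} {i : ℕ} (α : Ext.{u} X M i) :
    Ext.{u} ((G A).obj X) ((G A).obj M) i :=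
  α.mapExactFunctor (G A)

/-- The map at a finite stage. -/
noncomputable def θ₀ (k : ℕᵒᵖᵒᵖ) {M : ModuleCat.{u} A} {i : ℕ}
    (α : Ext.{u} ((quotSys a).obj k).unop M i) : HZa a M i :=
  (Ext.mk₀ (gen (a := a) k)).comp (mapG α) (zero_add i)

lemma θ₀_w {k k' : ℕᵒᵖᵒᵖ} (g : k ⟶ k') {M : ModuleCat.{u} A} {i : ℕ}
    (α : Ext.{u} ((quotSys a).obj k).unop M i) :
    θ₀ k' ((Ext.mk₀ ((quotSys a).map g).unop).comp α (zero_add i)) = θ₀ k α := by
  simp only [θ₀, mapG]
  rw [Ext.mapExactFunctor_comp, Ext.mapExactFunctor_mk₀, ← Ext.comp_assoc_of_second_deg_zero,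
    Ext.mk₀_comp_mk₀, gen_map]

lemma θ₀_add (k : ℕᵒᵖᵒᵖ) {M : ModuleCat.{u} A} {i : ℕ}
    (α β : Ext.{u} ((quotSys a).obj k).unop M i) : θ₀ k (α + β) = θ₀ k α + θ₀ k β := by
  simp only [θ₀, mapG]
  rw [Ext.mapExactFunctor_add, Ext.comp_add]

lemma θ₀_eq_of_ι_eq {k k' : ℕᵒᵖᵒᵖ} {M : ModuleCat.{u} A} {i : ℕ}
    (α : Ext.{u} ((quotSys a).obj k).unop M i) (β : Ext.{u} ((quotSys a).obj k').unop M i)
    (h : (colimExt.ι (quotSys a) i k M).hom α = (colimExt.ι (quotSys a) i k' M).hom β) :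
    θ₀ k α = θ₀ k' β := by
  obtain ⟨l, f, g, e⟩ := Concrete.isColimit_exists_of_rep_eq (colimExt.diag (quotSys a) i M)
    (colimExt.isColimitAt (quotSys a) i M) (i := k) (j := k') α β h
  exact ((θ₀_w f α).symm.trans (congrArg (θ₀ l) e)).trans (θ₀_w g β)

variable (a)

/-- The comparison map on the colimit. -/
noncomputable def θ (M : ModuleCat.{u} A) (i : ℕ) : (colimExt (quotSys a) i).obj M →+ HZa a M i :=
  AddMonoidHom.mk' (fun x => θ₀ _ (colimExt.exists_rep (quotSys a) i M x).choose_spec.choose)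
    fun x y => by
      obtain ⟨k, α, hα⟩ := colimExt.exists_rep (quotSys a) i M x
      obtain ⟨k', β, hβ⟩ := colimExt.exists_rep (quotSys a) i M y
      let l := IsFiltered.max k k'
      let α' := (Ext.mk₀ ((quotSys a).map (IsFiltered.leftToMax k k')).unop).comp α (zero_add i)
      let β' := (Ext.mk₀ ((quotSys a).map (IsFiltered.rightToMax k k')).unop).comp β (zero_add i)
      have hα' : (colimExt.ι (quotSys a) i l M).hom α' = x := (colimExt.w_apply _ _ _ _ α).trans hα
      have hβ' : (colimExt.ι (quotSys a) i l M).hom β' = y := (colimExt.w_apply _ _ _ _ β).trans hβ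
      refine (θ₀_eq_of_ι_eq _ (α' + β') ?_).trans ((θ₀_add l α' β').trans ?_)
      · refine (colimExt.exists_rep (quotSys a) i M (x + y)).choose_spec.choose_spec.trans ?_
        exact (congrArg₂ (· + ·) hα'.symm hβ'.symm).trans (map_add _ _ _).symm
      · exact congrArg₂ (· + ·)
          (θ₀_eq_of_ι_eq _ _ (hα'.trans (colimExt.exists_rep _ i M x).choose_spec.choose_spec.symm))
          (θ₀_eq_of_ι_eq _ _ (hβ'.trans (colimExt.exists_rep _ i M y).choose_spec.choose_spec.symm))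

lemma θ_ι {M : ModuleCat.{u} A} {i : ℕ} (k : ℕᵒᵖᵒᵖ) (α : Ext.{u} ((quotSys a).obj k).unop M i) :
    θ a M i ((colimExt.ι (quotSys a) i k M).hom α) = θ₀ k α :=
  θ₀_eq_of_ι_eq _ _ (colimExt.exists_rep (quotSys a) i M _).choose_spec.choose_spec

lemma θ_natural {M N : ModuleCat.{u} A} (f : M ⟶ N) (i : ℕ) (x : (colimExt (quotSys a) i).obj M) :
    θ a N i (((colimExt (quotSys a) i).map f).hom x) =
      (θ a M i x).comp (Ext.mk₀ ((G A).map f)) (add_zero i) := by
  obtain ⟨k, α, rfl⟩ := colimExt.exists_rep (quotSys a) i M x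
  rw [colimExt.map_ι_apply, θ_ι, θ_ι]
  simp only [θ₀, mapG]
  rw [Ext.mapExactFunctor_comp, Ext.mapExactFunctor_mk₀, Ext.comp_assoc_of_third_deg_zero]

lemma θ_δ {S : ShortComplex (ModuleCat.{u} A)} (hS : S.ShortExact) (i : ℕ)
    (x : (colimExt (quotSys a) i).obj S.X₃) :
    θ a S.X₁ (i + 1) ((colimExt.δ (quotSys a) hS i).hom x) =
      (θ a S.X₃ i x).comp (hS.map_of_exact (G A)).extClass rfl := by
  obtain ⟨k, α, rfl⟩ := colimExt.exists_rep (quotSys a) i S.X₃ x
  rw [colimExt.δ_ι_apply, θ_ι, θ_ι]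
  simp only [θ₀, mapG]
  rw [Ext.mapExactFunctor_comp, Ext.mapExactFunctor_extClass]
  exact (Ext.comp_assoc _ _ _ (zero_add i) rfl (by omega)).symm

theorem θ_zero_bijective (M : ModuleCat.{u} A) : Function.Bijective (θ a M 0) := by
  refine ⟨(injective_iff_map_eq_zero _).2 fun x hx => ?_, fun y => ?_⟩
  · obtain ⟨k, α, rfl⟩ := colimExt.exists_rep (quotSys a) 0 M x
    obtain ⟨φ, rfl⟩ := exists_mk₀ α
    rw [θ_ι] at hx
    simp only [θ₀, mapG, Ext.mapExactFunctor_mk₀, Ext.mk₀_comp_mk₀] at hx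
    have h0 : gen (a := a) k ≫ (G A).map φ = 0 :=
      (Ext.mk₀_bijective _ _).1 (hx.trans (Ext.mk₀_zero _ _).symm)
    have h1 := gen_eval k φ
    rw [h0, comp_zero, map_zero] at h1
    have h2 : φ.hom (LocalCoh.gen a k) = 0 :=
      (sec_top_bijective M).1 (h1.symm.trans (map_zero _).symm)
    have : φ = 0 := by
      ext z
      obtain ⟨r, rfl⟩ := span_gen a k z
      rw [map_smul, h2, smul_zero]
      rfl
    rw [this, Ext.mk₀_zero]
    exact map_zero _
  · obtain ⟨h, rfl⟩ := (Ext.mk₀_bijective _ _).2 y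
    obtain ⟨m, hm⟩ := (sec_top_bijective M).2 (CohFree.evalGen _ ⊤ _ (cokernel.π _ ≫ h))
    have hU : sec M (U a) m = 0 := by
      refine (res_toU M (le_top : U a ≤ ⊤) m).symm.trans ?_
      refine (congrArg (((G A).obj M).obj.map (homOfLE (le_top : U a ≤ ⊤)).op).hom hm).trans
        ((CohFree.evalGen_freeSheafMap_comp _ _ _ _).symm.trans ?_)
      rw [cokernel.condition_assoc, zero_comp, map_zero]
    obtain ⟨n, hn⟩ := (sec_U_eq_zero_iff a M m).1 hU
    let φ : ((quotSys a).obj (op (op n))).unop ⟶ M :=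
      ModuleCat.ofHom (Submodule.liftQ (a ^ n) (LinearMap.toSpanSingleton A M m)
        fun c hc => LinearMap.mem_ker.2 (hn c hc))
    refine ⟨(colimExt.ι (quotSys a) 0 (op (op n)) M).hom (Ext.mk₀ φ), ?_⟩
    rw [θ_ι]
    simp only [θ₀, mapG, Ext.mapExactFunctor_mk₀, Ext.mk₀_comp_mk₀]
    refine congrArg Ext.mk₀ (zq_hom_ext _ _ ?_)
    rw [gen_eval, ← hm]
    exact congrArg (sec M ⊤) (one_smul A m)

/-- The higher cohomology with supports of an injective module vanishes. -/
theorem subsingleton_injective (E : ModuleCat.{u} A) [Injective E] (i : ℕ) :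
    Subsingleton (HZa a E (i + 1)) := by
  obtain ⟨S, hS⟩ : a.FG := IsNoetherian.noetherian a
  let fs : List A := S.toList
  have hfs : Ideal.span {x | x ∈ fs} = a := by
    rw [← hS]
    exact congrArg Ideal.span (Set.ext fun x => Finset.mem_toList)
  have hI' : Koszul.Stable.LC.idl fs = a := hfs
  obtain ⟨e1⟩ := Koszul.Stable.Supp.nonempty_equiv A fs E (i + 1)
  obtain ⟨e2⟩ := Koszul.Stable.LC.nonempty_equiv fs (i + 1) E
  rw [hfs] at e1
  rw [hI'] at e2
  have : Subsingleton (LocCoh.H a (i + 1) E) := lc_subsingleton_of_injective a E i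
  have : Subsingleton (CohIII.koszulHLim fs (ModuleCat.of A E) (i + 1)) :=
    e2.toEquiv.symm.subsingleton
  exact e1.toEquiv.symm.subsingleton

/-- The comparison is bijective. -/
theorem θ_bijective : ∀ (i : ℕ) (M : ModuleCat.{u} A), Function.Bijective (θ a M i)
  | 0, M => θ_zero_bijective a M
  | i + 1, M => by
    let S : ShortComplex (ModuleCat.{u} A) :=
      ShortComplex.mk (Injective.ι M) (cokernel.π (Injective.ι M)) (cokernel.condition _)
    have hS : S.ShortExact :=
      { exact := ShortComplex.exact_of_g_is_cokernel _ (cokernelIsCokernel _) }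
    have : Injective S.X₂ := inferInstanceAs (Injective (Injective.under M))
    have ih := θ_bijective i
    have hG := hS.map_of_exact (G A)
    have hE : Subsingleton ((colimExt (quotSys a) (i + 1)).obj S.X₂) :=
      colimExt.subsingleton_of_injective (quotSys a) S.X₂ i
    have hE' : Subsingleton (HZa a S.X₂ (i + 1)) := subsingleton_injective a S.X₂ i
    refine ⟨(injective_iff_map_eq_zero _).2 fun x hx => ?_, fun y => ?_⟩
    · obtain ⟨z, hz⟩ := ((colimExt.deltaSeq (quotSys a)).exact₁ hS i x).1 (hE.elim _ _)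
      change (colimExt.δ (quotSys a) hS i).hom z = x at hz
      rw [← hz] at hx
      replace hx := (θ_δ a hS i z).symm.trans hx
      obtain ⟨w, hw⟩ := Ext.covariant_sequence_exact₃ _ hG _ rfl hx
      obtain ⟨w', hw'⟩ := (ih S.X₂).2 w
      have h1 : θ a S.X₃ i (((colimExt (quotSys a) i).map S.g).hom w') = θ a S.X₃ i z := by
        rw [θ_natural, hw']
        exact hw
      rw [← hz, ← (ih S.X₃).1 h1]
      exact ((colimExt.deltaSeq (quotSys a)).exact₃ hS i _).2 ⟨w', rfl⟩
    · obtain ⟨z, hz⟩ := Ext.covariant_sequence_exact₁ _ hG y (hE'.elim _ _) rfl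
      obtain ⟨z', rfl⟩ := (ih S.X₃).2 z
      exact ⟨(colimExt.δ (quotSys a) hS i).hom z', (θ_δ a hS i z').trans hz⟩

/-- `H^i_a(M) → H^i_{V(a)}(M~)`. -/
noncomputable def φ (M : Type u) [AddCommGroup M] [Module A M] (i : ℕ) :
    LocCoh.H a i M →+ HZa a (ModuleCat.of A M) i :=
  (θ a (ModuleCat.of A M) i).comp
    ((lcIso a i).hom.app (ModuleCat.of A M)).hom.toAddMonoidHom

theorem φ_bijective (M : Type u) [AddCommGroup M] [Module A M] (i : ℕ) :
    Function.Bijective (φ a M i) :=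
  (θ_bijective a i _).comp ((lcIso a i).app (ModuleCat.of A M)).toLinearEquiv.bijective

theorem φ_natural {M N : Type u} [AddCommGroup M] [Module A M] [AddCommGroup N] [Module A N]
    (f : M →ₗ[A] N) (i : ℕ) (x : LocCoh.H a i M) :
    φ a N i (((localCohomology a i).map (ModuleCat.ofHom f)).hom x) =
      LocCohZ.map ((G A).map (ModuleCat.ofHom f)) i le_top (φ a M i x) := by
  refine Eq.trans ?_ (θ_natural a (ModuleCat.ofHom f) i _)
  exact congrArg (θ a (ModuleCat.of A N) i)
    (ConcreteCategory.congr_hom ((lcIso a i).hom.naturality (ModuleCat.ofHom f)) x)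

end Groth.Agent.Lib.PuncturedLC
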