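import Groth.Agent.Lib.PuncturedLC.Components
import Mathlib.RingTheory.Nilpotent.Lemmas

/-!
# Connectedness of `V(I) ∖ V(a)` from formal sections
-/

universe u

open CategoryTheory TopologicalSpace Opposite AlgebraicGeometry

attribute [local instance] HasDerivedCategory.standard

namespace Groth.Agent.Lib.PuncturedLC.Connected

open Groth.Agent.H20.TildeSections Sections Components

variable {A : Type u} [CommRing A]

/-- An associated prime of the reduced ring is minimal. -/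
theorem minimal_of_associated [IsNoetherianRing A] {p : Ideal A}
    (hp : p ∈ associatedPrimes A (A ⧸ nilradical A)) : p ∈ minimalPrimes A := by
  classical
  obtain ⟨hpp, x, hx⟩ := isAssociatedPrime_iff.1 hp
  obtain ⟨x, rfl⟩ := Submodule.Quotient.mk_surjective _ x
  let S := (minimalPrimes.finite_of_isNoetherianRing A).toFinset.filter fun P => x ∉ P
  have hle : S.inf id ≤ p := fun c hc => by
    rw [hx, Submodule.mem_colon_singleton, Submodule.mem_bot, ← Submodule.Quotient.mk_smul,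
      Submodule.Quotient.mk_eq_zero]
    show c * x ∈ nilradical A
    rw [nilradical, ← Ideal.sInf_minimalPrimes, Ideal.mem_sInf]
    intro P hP
    by_cases hxP : x ∈ P
    · exact P.mul_mem_left c hxP
    · exact P.mul_mem_right x (Submodule.mem_finsetInf.1 hc P
        (Finset.mem_filter.2 ⟨(Set.Finite.mem_toFinset _).2 hP, hxP⟩))
  obtain ⟨P, hP, hPp⟩ := hpp.inf_le'.1 hle
  obtain ⟨hP, hxP⟩ := Finset.mem_filter.1 hP
  rw [Set.Finite.mem_toFinset] at hP
  have hpP : p ≤ P := fun c hc => by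
    rw [hx, Submodule.mem_colon_singleton, Submodule.mem_bot, ← Submodule.Quotient.mk_smul,
      Submodule.Quotient.mk_eq_zero] at hc
    have : c * x ∈ nilradical A := hc
    rw [nilradical, ← Ideal.sInf_minimalPrimes, Ideal.mem_sInf] at this
    exact ((Ideal.minimalPrimes_isPrime hP).mem_or_mem (this hP)).resolve_right hxP
  exact (le_antisymm hpP hPp) ▸ hP

variable (M : Type u) [AddCommGroup M] [Module A M]

/-- The class of an element over an open. -/
noncomputable def elt (V : (Spec (CommRingCat.of A)).Opens) (m : M) : Formal2.HV A M 0 V :=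
  (sc M V).symm (toU (ModuleCat.of A M) V m)

lemma elt_res {V W : (Spec (CommRingCat.of A)).Opens} (h : W ≤ V) (m : M) :
    Formal2.HVres A M 0 h (elt M V m) = elt M W m := by
  apply (sc M W).injective
  rw [sc_res, elt, elt, AddEquiv.apply_symm_apply, AddEquiv.apply_symm_apply]
  exact res_toU (ModuleCat.of A M) h m

lemma elt_map {N : Type u} [AddCommGroup N] [Module A N] (f : M →ₗ[A] N)
    (V : (Spec (CommRingCat.of A)).Opens) (m : M) :
    Formal2.HVmap A f 0 V (elt M V m) = elt N V (f m) := by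
  apply (sc N V).injective
  rw [sc_map, elt, elt, AddEquiv.apply_symm_apply, AddEquiv.apply_symm_apply, fS_toU]

/-- Classes agree if they agree on an open cover. -/
theorem ext_of_cover {V W₁ W₂ : (Spec (CommRingCat.of A)).Opens} (z z' : Formal2.HV A M 0 V)
    (h₁ : W₁ ≤ V) (h₂ : W₂ ≤ V) (hcov : V ≤ W₁ ⊔ W₂)
    (e₁ : Formal2.HVres A M 0 h₁ z = Formal2.HVres A M 0 h₁ z')
    (e₂ : Formal2.HVres A M 0 h₂ z = Formal2.HVres A M 0 h₂ z') : z = z' := by
  rw [← sub_eq_zero]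
  refine eq_zero_of_vanishNear _ fun p hp => ?_
  rcases hcov hp with h | h
  · exact ⟨W₁, h₁, h, by rw [map_sub, e₁, sub_self]⟩
  · exact ⟨W₂, h₂, h, by rw [map_sub, e₂, sub_self]⟩

/-- Two classes agreeing on the intersection glue. -/
theorem exists_glue {V W₁ W₂ : (Spec (CommRingCat.of A)).Opens} (h₁ : W₁ ≤ V) (h₂ : W₂ ≤ V)
    (hcov : V ≤ W₁ ⊔ W₂) (z₁ : Formal2.HV A M 0 W₁) (z₂ : Formal2.HV A M 0 W₂)
    (e : Formal2.HVres A M 0 (inf_le_left : W₁ ⊓ W₂ ≤ W₁) z₁ =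
      Formal2.HVres A M 0 (inf_le_right : W₁ ⊓ W₂ ≤ W₂) z₂) :
    ∃ z : Formal2.HV A M 0 V, Formal2.HVres A M 0 h₁ z = z₁ ∧ Formal2.HVres A M 0 h₂ z = z₂ := by
  let F := modulesSpecToSheaf.obj (tilde (R := CommRingCat.of A) (ModuleCat.of A M))
  let W : Bool → (Spec (CommRingCat.of A)).Opens := fun b => if b then W₁ else W₂
  let s : ∀ b, Sec (ModuleCat.of A M) (W b)
    | true => sc M W₁ z₁
    | false => sc M W₂ z₂
  have e' : res (ModuleCat.of A M) (inf_le_left : W₁ ⊓ W₂ ≤ W₁) (sc M W₁ z₁) =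
      res (ModuleCat.of A M) (inf_le_right : W₁ ⊓ W₂ ≤ W₂) (sc M W₂ z₂) := by
    rw [← sc_res, ← sc_res, e]
  obtain ⟨t, ht, -⟩ := TopCat.Sheaf.existsUnique_gluing' F W V
    (fun b => homOfLE (by cases b <;> [exact h₂; exact h₁]))
    (fun p hp => Opens.mem_iSup.2 ((hcov hp).elim (fun h => ⟨true, h⟩) fun h => ⟨false, h⟩)) s
    fun b b' => by
      show res (ModuleCat.of A M) inf_le_left (s b) = res (ModuleCat.of A M) inf_le_right (s b')
      cases b <;> cases b'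
      · rfl
      · refine Eq.trans ?_ ((congrArg (res (ModuleCat.of A M)
          (le_inf inf_le_right inf_le_left : W₂ ⊓ W₁ ≤ W₁ ⊓ W₂)) e'.symm).trans ?_)
        · exact (res_res _ _ _ _).symm
        · exact res_res _ _ _ _
      · exact e'
      · rfl
  refine ⟨(sc M V).symm t, (sc M W₁).injective ?_, (sc M W₂).injective ?_⟩
  · rw [sc_res, AddEquiv.apply_symm_apply]
    exact ht true
  · rw [sc_res, AddEquiv.apply_symm_apply]
    exact ht false

variable [IsNoetherianRing A]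

/-- Connectedness of `V(I) ∖ V(a)`. -/
theorem isPreconnected {I a : Ideal A} [Module.Finite A M] (m : M) (hm : ∀ p : PrimeSpectrum A,
      ∀ c : A, c • m = 0 → c ∈ p.asIdeal)
    (hbij : Formal2.FormalCohColimBijective A I M 0 (U a))
    (hconn : ∀ V : Set (PrimeSpectrum A), IsOpen V → V.Nonempty →
      PrimeSpectrum.zeroLocus (I : Set A) \ PrimeSpectrum.zeroLocus (a : Set A) ⊆ V → _root_.IsConnected V) :
    IsPreconnected (PrimeSpectrum.zeroLocus (I : Set A) \ PrimeSpectrum.zeroLocus (a : Set A)) := by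
  intro u v hu hv hsub hsu hsv
  by_contra hne
  rw [Set.not_nonempty_iff_eq_empty] at hne
  let Z : Set (PrimeSpectrum A) :=
    PrimeSpectrum.zeroLocus (I : Set A) \ PrimeSpectrum.zeroLocus (a : Set A)
  let O₁ : (Spec (CommRingCat.of A)).Opens := U a ⊓ ⟨u, hu⟩
  let O₂ : (Spec (CommRingCat.of A)).Opens := U a ⊓
    ⟨v ∪ (PrimeSpectrum.zeroLocus (I : Set A))ᶜ,
      hv.union (PrimeSpectrum.isClosed_zeroLocus _).isOpen_compl⟩
  have hcov : U a ≤ O₁ ⊔ O₂ := fun p hp => by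
    by_cases hpI : p ∈ PrimeSpectrum.zeroLocus (I : Set A)
    · rcases hsub (show p ∈ Z from ⟨hpI, hp⟩) with h | h
      · exact Or.inl ⟨hp, h⟩
      · exact Or.inr ⟨hp, Or.inl h⟩
    · exact Or.inr ⟨hp, Or.inr hpI⟩
  have hov : ∀ p : PrimeSpectrum A, p ∈ O₁ → p ∈ O₂ → p ∉ PrimeSpectrum.zeroLocus (I : Set A) := by
    intro p h₁ h₂ hpI
    rcases h₂.2 with h | h
    · exact (Set.eq_empty_iff_forall_notMem.1 hne) p ⟨⟨hpI, h₁.1⟩, h₁.2, h⟩
    · exact h hpI
  have hvanish : ∀ (n : ℕ) (z : Formal2.HV A (Formal2.quotPow A I M n) 0 (O₁ ⊓ O₂)), z = 0 := fun n z =>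
    eq_zero_of_vanishNear z fun p hp => vanishNear_of_notMem_support z hp fun hs =>
      hov p hp.1 hp.2 fun c hc => p.isPrime.mem_of_pow_mem (n + 1)
        (Module.annihilator_le_of_mem_support hs (Module.mem_annihilator.2 fun w => by
          obtain ⟨w, rfl⟩ := Submodule.Quotient.mk_surjective _ w
          rw [← Submodule.Quotient.mk_smul, Submodule.Quotient.mk_eq_zero]
          exact Submodule.smul_mem_smul (Ideal.pow_mem_pow hc _) Submodule.mem_top))
  choose y hy₁ hy₂ using fun n => exists_glue (Formal2.quotPow A I M n) (V := U a) inf_le_left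
    inf_le_left hcov (elt _ O₁ (Formal2.quotPowπ A I M n m)) 0 ((hvanish n _).trans (hvanish n _).symm)
  obtain ⟨V, hV, x, hx⟩ := hbij.2 y fun n => by
    refine ext_of_cover _ _ _ inf_le_left inf_le_left hcov ?_ ?_
    · rw [HVres_HVmap, hy₁, hy₁, elt_map]
      rfl
    · rw [HVres_HVmap, hy₂, hy₂, map_zero]
  have h₁ : ∀ p : PrimeSpectrum A, p ∈ Z → p ∈ u → VanishNear (x - elt M V m) p := by
    intro p hp hpu
    let W : (Spec (CommRingCat.of A)).Opens := V ⊓ O₁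
    obtain ⟨W', hW', hpW', h0⟩ := vanishNear_of_quot I
      (Formal2.HVres A M 0 (inf_le_left : W ≤ V) (x - elt M V m)) (fun n => by
        rw [← HVres_HVmap, map_sub, map_sub, ← hx n, elt_map, elt_res,
          HVres_HVres, ← HVres_HVres (inf_le_left : O₁ ≤ U a) (inf_le_right : W ≤ O₁), hy₁, elt_res,
          sub_self])
      (p := p) ⟨hV.2 p hp.2 hp.1, hp.2, hpu⟩ hp.1
    exact ⟨W', hW'.trans inf_le_left, hpW', by rw [← HVres_HVres (inf_le_left : W ≤ V) hW', h0]⟩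
  have h₂ : ∀ p : PrimeSpectrum A, p ∈ Z → p ∈ v → VanishNear x p := by
    intro p hp hpv
    let W : (Spec (CommRingCat.of A)).Opens := V ⊓ O₂
    obtain ⟨W', hW', hpW', h0⟩ := vanishNear_of_quot I
      (Formal2.HVres A M 0 (inf_le_left : W ≤ V) x) (fun n => by
        rw [← HVres_HVmap, ← hx n,
          HVres_HVres, ← HVres_HVres (inf_le_left : O₂ ≤ U a) (inf_le_right : W ≤ O₂), hy₂, map_zero])
      (p := p) ⟨hV.2 p hp.2 hp.1, hp.2, Or.inl hpv⟩ hp.1
    exact ⟨W', hW'.trans inf_le_left, hpW', by rw [← HVres_HVres (inf_le_left : W ≤ V) hW', h0]⟩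
  obtain ⟨W₀, hW₀, e₀, max₀⟩ := exists_zero_open x
  obtain ⟨W₁, hW₁, e₁, max₁⟩ := exists_zero_open (x - elt M V m)
  have hmem : ∀ p ∈ Z, p ∈ W₁ ∨ p ∈ W₀ := fun p hp => (hsub hp).elim
    (fun h => Or.inl (by obtain ⟨W', h', hpW', h0⟩ := h₁ p hp h; exact max₁ W' h' h0 hpW'))
    fun h => Or.inr (by obtain ⟨W', h', hpW', h0⟩ := h₂ p hp h; exact max₀ W' h' h0 hpW')
  have hdisj : ∀ p : PrimeSpectrum A, p ∈ W₁ → p ∈ W₀ → False := fun p hp₁ hp₀ => by
    have h : elt M (W₁ ⊓ W₀) m = 0 := by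
      have a₁ := congrArg (Formal2.HVres A M 0 (inf_le_left : W₁ ⊓ W₀ ≤ W₁)) e₁
      have a₀ := congrArg (Formal2.HVres A M 0 (inf_le_right : W₁ ⊓ W₀ ≤ W₀)) e₀
      rw [map_zero, HVres_HVres] at a₀ a₁
      rw [map_sub, elt_res, a₀, zero_sub, neg_eq_zero] at a₁
      exact a₁
    obtain ⟨_, ⟨_, ⟨g, rfl⟩, rfl⟩, hpg, hgW⟩ :=
      PrimeSpectrum.isBasis_basic_opens.exists_subset_of_mem_open
        (show p ∈ W₁ ⊓ W₀ from ⟨hp₁, hp₀⟩) (W₁ ⊓ W₀).2
    have h' := congrArg (sc M (D (g : A))) (congrArg (Formal2.HVres A M 0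
      (show D (g : A) ≤ W₁ ⊓ W₀ from hgW)) h)
    rw [elt_res, elt, AddEquiv.apply_symm_apply, map_zero, map_zero] at h'
    have := isLocalizedModule_toU (ModuleCat.of A M) (g : A)
    obtain ⟨⟨_, k, rfl⟩, hk⟩ := (IsLocalizedModule.eq_zero_iff (Submonoid.powers (g : A))
      (toU (ModuleCat.of A M) (D (g : A)))).1 h'
    exact hpg (p.isPrime.mem_of_pow_mem k (hm p _ hk))
  have hc := hconn (W₁.carrier ∪ W₀.carrier) (W₁.2.union W₀.2)
    (by obtain ⟨p, hp, -⟩ := hsu; exact ⟨p, hmem p hp⟩) (fun p hp => hmem p hp)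
  obtain ⟨pu, hpu, hpu'⟩ := hsu
  obtain ⟨pv, hpv, hpv'⟩ := hsv
  have m₁ : pu ∈ W₁ := by obtain ⟨W', h', hW', h0⟩ := h₁ pu hpu hpu'; exact max₁ W' h' h0 hW'
  have m₀ : pv ∈ W₀ := by obtain ⟨W', h', hW', h0⟩ := h₂ pv hpv hpv'; exact max₀ W' h' h0 hW'
  obtain ⟨p, -, hp₁, hp₀⟩ := hc.2 W₁.carrier W₀.carrier W₁.2 W₀.2 (fun p hp => hp) ⟨pu, Or.inl m₁, m₁⟩
    ⟨pv, Or.inr m₀, m₀⟩
  exact hdisj p hp₁ hp₀

end Groth.Agent.Lib.PuncturedLC.Connected
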