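import Groth.Agent.Lib.PuncturedLC.Components
import Groth.Agent.Lib.Depth.SES

/-!
# A finite hull of depth two along a specialization-stable set
-/

universe u

open CategoryTheory CategoryTheory.Limits

attribute [local instance] HasDerivedCategory.standard

namespace Groth.Agent.Lib.PuncturedLC.DepthTwoHull

open Groth.Agent.Lib Groth.Agent.Lib.DMod Groth.Agent.Lib.PuncturedLC.Components
open Groth.Agent.Lib.DMod.Degree (deg)

variable {A : Type u} [CommRing A] [IsNoetherianRing A]

omit [IsNoetherianRing A] in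
/-- When a fraction vanishes. -/
theorem mk_eq_zero_iff' {M : Type u} [AddCommGroup M] [Module A M] (S : Submonoid A) (x : M) (s : S) :
    LocalizedModule.mk x s = 0 ↔ ∃ c ∈ S, c • x = 0 := by
  rw [← LocalizedModule.zero_mk (1 : S), LocalizedModule.mk_eq]
  constructor
  · rintro ⟨u, hu⟩
    exact ⟨u, u.2, by simpa [Submonoid.smul_def] using hu⟩
  · rintro ⟨c, hc, h⟩
    exact ⟨⟨c, hc⟩, by simpa [Submonoid.smul_def] using h⟩

/-- The hull. -/
theorem exists_hull {ω : Dual.D A} (hω : Dual.IsDualizing A ω) (T : Set (PrimeSpectrum A))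
    (hT : StableUnderSpecialization T) (M : Type u) [AddCommGroup M] [Module A M] [Module.Finite A M]
    (hM : ∀ p q : PrimeSpectrum A, p ⋖ q → q ∈ T → p ∉ T →
      1 ≤ LocCoh.depth (Localization.AtPrime p.asIdeal) (LocalizedModule p.asIdeal.primeCompl M)) :
    ∃ (M'' : Type u) (_ : AddCommGroup M'') (_ : Module A M'') (_ : Module.Finite A M'') (f : M →ₗ[A] M''),
      (∀ p : PrimeSpectrum A, p ∉ T → Function.Bijective (LocalizedModule.map p.asIdeal.primeCompl f)) ∧
      ∀ p : PrimeSpectrum A, p ∈ T →
        2 ≤ LocCoh.depth (Localization.AtPrime p.asIdeal) (LocalizedModule p.asIdeal.primeCompl M'') := by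
  classical
  have hTle : ∀ {p q : PrimeSpectrum A}, p ≤ q → p ∈ T → q ∈ T := fun h hp =>
    hT ((PrimeSpectrum.le_iff_specializes _ _).1 h) hp
  let ι := {p : PrimeSpectrum A // p.asIdeal ∈ associatedPrimes A M ∧ p ∉ T}
  have : Finite ι := (((associatedPrimes.finite A M).preimage (fun x _ y _ h => PrimeSpectrum.ext h) :
      Set.Finite {p : PrimeSpectrum A | p.asIdeal ∈ associatedPrimes A M}).subset
        (fun p hp => hp.1) : Set.Finite {p : PrimeSpectrum A | p.asIdeal ∈ associatedPrimes A M ∧ p ∉ T}).to_subtype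
  have : Fintype ι := Fintype.ofFinite ι
  choose P iP₁ iP₂ iP₃ e hsupp hd1 hd2 hinj using fun j : ι => Reflexive.exists_component hω j.1 M
  let Φ : M →ₗ[A] (∀ j, P j) := LinearMap.pi e
  -- the hull
  let H : Submodule A (∀ j, P j) :=
    { carrier := {x | ∀ p : PrimeSpectrum A, p ∉ T → ∃ c ∉ p.asIdeal, c • x ∈ LinearMap.range Φ}
      add_mem' := fun {x y} hx hy p hp => by
        obtain ⟨c, hc, hcx⟩ := hx p hp
        obtain ⟨d, hd, hdy⟩ := hy p hp
        refine ⟨c * d, p.isPrime.mul_notMem hc hd, ?_⟩
        rw [smul_add, mul_comm c d, mul_smul, mul_comm d c, mul_smul]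
        exact add_mem (Submodule.smul_mem _ d hcx) (Submodule.smul_mem _ c hdy)
      zero_mem' := fun p hp => ⟨1, p.isPrime.one_notMem, by rw [smul_zero]; exact zero_mem _⟩
      smul_mem' := fun r x hx p hp => by
        obtain ⟨c, hc, hcx⟩ := hx p hp
        exact ⟨c, hc, by rw [smul_comm]; exact Submodule.smul_mem _ r hcx⟩ }
  have hle : ∀ m, Φ m ∈ H := fun m p hp => ⟨1, p.isPrime.one_notMem, by rw [one_smul]; exact ⟨m, rfl⟩⟩
  let f : M →ₗ[A] H := LinearMap.codRestrict H Φ hle
  have hker : ∀ p : PrimeSpectrum A, p ∉ T → p ∉ Module.support A (LinearMap.ker Φ) := by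
    intro p hp hs
    obtain ⟨q, hq, hqp⟩ := Ideal.exists_minimalPrimes_le (Module.annihilator_le_of_mem_support hs)
    have hass := Module.associatedPrimes.minimalPrimes_annihilator_subset_associatedPrimes A _ hq
    let q' : PrimeSpectrum A := ⟨q, hq.1.1⟩
    have hqT : q' ∉ T := fun h => hp (hTle hqp h)
    obtain ⟨-, x, hx⟩ := isAssociatedPrime_iff.1 hass
    refine hinj ⟨q', associatedPrimes.subset_of_injective (LinearMap.ker Φ).injective_subtype hass, hqT⟩
      x.1 (fun c => ?_) (congrFun (LinearMap.mem_ker.1 x.2) _)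
    show c ∈ q ↔ _
    rw [show c ∈ q ↔ c • x = 0 by rw [hx, Submodule.mem_colon_singleton, Submodule.mem_bot]]
    exact Subtype.ext_iff
  have hP2 : ∀ p : PrimeSpectrum A, p ∈ T →
      (2 : ℕ∞) ≤ LocCoh.depth (Localization.AtPrime p.asIdeal) (LocalizedModule p.asIdeal.primeCompl (∀ j, P j)) := by
    intro q hq
    let S := q.asIdeal.primeCompl
    let R := Localization.AtPrime q.asIdeal
    have hj : ∀ j, (2 : ℕ∞) ≤ LocCoh.depth R (LocalizedModule S (P j)) := fun j => by
      by_cases hs : q ∈ Module.support A (P j)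
      swap
      · rw [depth_eq_top hs]; exact le_top
      have hlt : j.1 < q := lt_of_le_of_ne (hsupp j q hs) fun h => j.2.2 (h ▸ hq)
      have hnc : ¬ j.1 ⋖ q := fun h => (one_le_depth_iff M j.1).1 (hM j.1 q h hq j.2.2) j.2.1
      obtain ⟨r, hr₁, hr₂⟩ := exists_lt_lt_of_not_covBy hlt hnc
      refine hd2 j q hlt.le ?_
      have := Degree.deg_lt hω hr₁
      have := Degree.deg_lt hω hr₂
      omega
    have : ∀ j, Module.Finite R (LocalizedModule S (P j)) := fun j =>
      Module.Finite.of_isLocalizedModule S (LocalizedModule.mkLinearMap S (P j))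
    have : Module.Finite R (LocalizedModule S (∀ j, P j)) :=
      Module.Finite.of_isLocalizedModule S (LocalizedModule.mkLinearMap S _)
    rw [show (2 : ℕ∞) = ((2 : ℕ) : ℕ∞) from rfl]
    refine (Depth.LocalCoh.le_idealDepth_iff_H (IsLocalRing.maximalIdeal R) _ 2).2 fun i hi =>
      subsingleton_of_forall_eq 0 fun x => ?_
    let m := fun j => LocalizedModule.map S (LinearMap.proj j : (∀ j, P j) →ₗ[A] P j)
    let n := fun j => LocalizedModule.map S (LinearMap.single A P j)
    have hsum : ModuleCat.ofHom (LinearMap.id : LocalizedModule S (∀ j, P j) →ₗ[R] _) =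
        ∑ j, (ModuleCat.ofHom (m j) ≫ ModuleCat.ofHom (n j)) := by
      ext v
      rw [ModuleCat.hom_sum, LinearMap.sum_apply]
      induction v using LocalizedModule.induction_on with
      | h v s =>
        show LocalizedModule.mk v s = ∑ j, n j (m j (LocalizedModule.mk v s))
        simp only [m, n, LocalizedModule.map_mk]
        show _ = ∑ j, LocalizedModule.mk (Pi.single j (v j)) s
        have key : ∀ F : Finset ι, ∑ j ∈ F, LocalizedModule.mk (Pi.single j (v j)) s =
            LocalizedModule.mk (∑ j ∈ F, Pi.single j (v j)) s := fun F => by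
          induction F using Finset.induction with
          | empty => simp [LocalizedModule.zero_mk]
          | insert j F hjF ih =>
            rw [Finset.sum_insert hjF, Finset.sum_insert hjF, ih, LocalizedModule.mk_add_mk,
              ← smul_add, LocalizedModule.mk_cancel_common_left]
        rw [key, Finset.univ_sum_single]
    have e1 := LinearMap.congr_fun (LCFin.Seq.Hmap_id (I := IsLocalRing.maximalIdeal R)
      (M := LocalizedModule S (∀ j, P j)) i) x
    refine e1.symm.trans ((congrArg (fun t => ((localCohomology (IsLocalRing.maximalIdeal R) i).map t).hom x)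
      hsum).trans ?_)
    simp only [Functor.map_sum, Functor.map_comp, ModuleCat.hom_sum, ModuleCat.hom_comp,
      LinearMap.sum_apply, LinearMap.comp_apply]
    exact Finset.sum_eq_zero fun j _ => (congrArg _
      (((Depth.LocalCoh.le_idealDepth_iff_H (IsLocalRing.maximalIdeal R) (LocalizedModule S (P j)) 2).1
        (hj j) i hi).elim _ 0)).trans (map_zero _)
  refine ⟨H, inferInstance, inferInstance, inferInstance, f, fun p hp => ⟨?_, ?_⟩, fun q hq => ?_⟩
  · refine (injective_iff_map_eq_zero _).2 fun v => ?_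
    induction v using LocalizedModule.induction_on with
    | h m s =>
      intro hv
      rw [LocalizedModule.map_mk, mk_eq_zero_iff'] at hv
      obtain ⟨c, hc, hcm⟩ := hv
      have hk : c • m ∈ LinearMap.ker Φ := by
        rw [LinearMap.mem_ker, map_smul]
        exact congrArg Subtype.val hcm
      obtain ⟨d, hd, hd'⟩ := Module.notMem_support_iff'.1 (hker p hp) ⟨c • m, hk⟩
      rw [mk_eq_zero_iff']
      refine ⟨d * c, p.isPrime.mul_notMem hd hc, ?_⟩
      rw [mul_smul]
      exact congrArg Subtype.val hd'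
  · intro v
    induction v using LocalizedModule.induction_on with
    | h x s =>
      obtain ⟨c, hc, m, hm⟩ := x.2 p hp
      refine ⟨LocalizedModule.mk m (⟨c, hc⟩ * s), ?_⟩
      rw [LocalizedModule.map_mk, show f m = c • x from Subtype.ext hm]
      exact LocalizedModule.mk_cancel_common_left ⟨c, hc⟩ s x
  · have h1 : q.asIdeal ∉ associatedPrimes A ((∀ j, P j) ⧸ H) := fun hass => by
      obtain ⟨-, x, hx⟩ := isAssociatedPrime_iff.1 hass
      obtain ⟨x, rfl⟩ := Submodule.Quotient.mk_surjective _ x
      have hmem : ∀ c : A, c ∈ q.asIdeal ↔ c • x ∈ H := fun c => by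
        rw [hx, Submodule.mem_colon_singleton, Submodule.mem_bot, ← Submodule.Quotient.mk_smul,
          Submodule.Quotient.mk_eq_zero]
      have hxH : x ∈ H := fun p hp => by
        obtain ⟨c, hc, hcp⟩ := SetLike.not_le_iff_exists.1
          (show ¬ q.asIdeal ≤ p.asIdeal from fun h => hp (hTle h hq))
        obtain ⟨d, hd, hdx⟩ := (hmem c).1 hc p hp
        exact ⟨d * c, p.isPrime.mul_notMem hd hcp, by rwa [mul_smul]⟩
      exact q.isPrime.one_notMem ((hmem 1).2 (by rwa [one_smul]))
    let S := q.asIdeal.primeCompl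
    let R := Localization.AtPrime q.asIdeal
    have : Module.Finite R (LocalizedModule S H) :=
      Module.Finite.of_isLocalizedModule S (LocalizedModule.mkLinearMap S H)
    have : Module.Finite R (LocalizedModule S (∀ j, P j)) :=
      Module.Finite.of_isLocalizedModule S (LocalizedModule.mkLinearMap S _)
    have : Module.Finite R (LocalizedModule S ((∀ j, P j) ⧸ H)) :=
      Module.Finite.of_isLocalizedModule S (LocalizedModule.mkLinearMap S _)
    exact Depth.SES.le_idealDepth_left (IsLocalRing.maximalIdeal R)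
      (LocalizedModule.map_injective S H.subtype Subtype.val_injective)
      (LocalizedModule.map_exact S H.subtype H.mkQ (LinearMap.exact_subtype_mkQ H))
      (LocalizedModule.map_surjective S H.mkQ H.mkQ_surjective) (n := 2) (hP2 q hq)
      ((one_le_depth_iff ((∀ j, P j) ⧸ H) q).2 h1)

end Groth.Agent.Lib.PuncturedLC.DepthTwoHull
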