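import Groth.Agent.Lib.PuncturedLC.Punctured
import Groth.Agent.Lib.ProZero.Seq
import Groth.Agent.Lib.Adic.Complete

/-!
# Formal cohomology on the complement of `V(a)` from pro-vanishing of `H^i_a(I^n M)`
-/

universe u

open CategoryTheory CategoryTheory.Limits Opposite

attribute [local instance] HasDerivedCategory.standard

namespace Groth.Agent.Lib.PuncturedLC

open Groth.Agent.Lib.ProZero.Complex Groth.Agent.Lib.ProZero.Seq

variable {A : Type u} [CommRing A] [IsNoetherianRing A] (I a : Ideal A) (M : Type u) [AddCommGroup M]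
  [Module A M]

/-- The systems `H^i_a(I^n M)` are pro-zero up to degree `s + 1`. -/
def Pro (s : ℕ) : Prop :=
  ∀ n, ∃ (m : ℕ) (h : n ≤ m), ∀ i ≤ s + 1, ∀ x : Ha a i (pw I M m), Hf a i (incl I M h) x = 0

/-- What the comparison needs: separatedness of local cohomology up to degree `s + 1`, and lifting
from the quotients up to degree `s`. -/
structure Ctrl (s : ℕ) : Prop where
  sep : ∀ i ≤ s + 1, ∀ x : Ha a i M, (∀ n, Hf a i (pw I M n).mkQ x = 0) → x = 0
  range : ∀ n, ∃ (k : ℕ) (h : n ≤ k), ∀ i ≤ s, ∀ x : Ha a i (M ⧸ pw I M k),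
    ∃ y, Hf a i (pw I M n).mkQ y = Hf a i (tr I M h) x
  lift : ∀ i ≤ s, ∀ y : ∀ n, Ha a i (M ⧸ pw I M n),
    (∀ {n m : ℕ} (h : n ≤ m), Hf a i (tr I M h) (y m) = y n) →
      ∃ x, ∀ n, Hf a i (pw I M n).mkQ x = y n

variable {I a M} {s : ℕ}

theorem Pro.ctrl (hpro : Pro I a M s) : Ctrl I a M s where
  sep i hi x h := by
    obtain ⟨m, hm⟩ := exists_injective hpro
    exact hm m le_rfl i hi x (h m)
  range n := exists_mem_range hpro n
  lift i hi y hy := exists_lift hpro i hi y hy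


set_option linter.unusedSectionVars false

lemma hv_comp {N P Q : Type u} [AddCommGroup N] [Module A N] [AddCommGroup P] [Module A P]
    [AddCommGroup Q] [Module A Q] (f : N →ₗ[A] P) (g : P →ₗ[A] Q) (i : ℕ)
    (x : Formal2.HV A N i (U a)) :
    Formal2.HVmap A g i (U a) (Formal2.HVmap A f i (U a) x) = Formal2.HVmap A (g ∘ₗ f) i (U a) x := by
  have h : (G A).map (ModuleCat.ofHom (g ∘ₗ f)) =
      (G A).map (ModuleCat.ofHom f) ≫ (G A).map (ModuleCat.ofHom g) := by
    rw [← Functor.map_comp]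
    rfl
  exact (ConcreteCategory.congr_hom (congrArg (fun t => (NatTrans.app t (op (U a))))
    ((congrArg (Sheaf.cohomologyPresheafFunctor
      (_root_.Opens.grothendieckTopology (AlgebraicGeometry.Spec (CommRingCat.of A)).toPresheafedSpace.carrier) i).map h).trans
        (Functor.map_comp _ _ _))) x).symm

lemma tr_tr_apply {n k l : ℕ} (h : n ≤ k) (h' : k ≤ l) (z : M ⧸ pw I M l) :
    tr I M h (tr I M h' z) = tr I M (h.trans h') z :=
  LinearMap.congr_fun (tr_tr I M h h') z

lemma tr_self {n : ℕ} (z : M ⧸ pw I M n) : tr I M (le_refl n) z = z := by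
  obtain ⟨z, rfl⟩ := Submodule.Quotient.mk_surjective _ z
  rfl

lemma tr_succ_eq_trans (n : ℕ) :
    tr I M (Nat.le_succ (n + 1)) = Formal2.quotPowTrans A I M n := by
  refine LinearMap.ext fun z => ?_
  obtain ⟨z, rfl⟩ := Submodule.Quotient.mk_surjective _ z
  simp [Formal2.quotPowTrans, Submodule.mapQ_apply]

/-- A compatible family on the quotients `M/I^(n+1)M`, extended to all `M/I^nM`. -/
theorem exists_extend (i : ℕ) (c : ∀ n, Ha a i (Formal2.quotPow A I M n))
    (hc : ∀ n, Hf a i (Formal2.quotPowTrans A I M n) (c (n + 1)) = c n) :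
    ∃ d : ∀ n, Ha a i (M ⧸ pw I M n), (∀ {n m : ℕ} (h : n ≤ m), Hf a i (tr I M h) (d m) = d n) ∧
      ∀ n, d (n + 1) = c n := by
  have hcomp : ∀ {n m : ℕ} (h : n ≤ m), Hf a i (tr I M (Nat.add_le_add_right h 1)) (c m) = c n :=
    fun h => compat_of_succ (localCohomology.ofDiagram.{u, u}
      (Dual2.idealsInDiagram (PrimeSpectrum.zeroLocus (a : Set A))) i) c hc h
  refine ⟨fun n => Hf a i (tr I M (Nat.le_succ n)) (c n), fun {n m} h => ?_, fun n => ?_⟩
  · show Hf a i (tr I M h) (Hf a i (tr I M (Nat.le_succ m)) (c m)) = _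
    refine (Hm_comp i _ _ _).trans ?_
    rw [tr_tr]
    show _ = Hf a i (tr I M (Nat.le_succ n)) (c n)
    rw [← hcomp h]
    refine Eq.trans ?_ (Hm_comp i _ _ _).symm
    rw [tr_tr]
  · show Hf a i (tr I M (Nat.le_succ (n + 1))) (c (n + 1)) = c n
    rw [tr_succ_eq_trans]
    exact hc n

variable (hc : Ctrl I a M s)
include hc

/-- Classes in degree zero are separated. -/
theorem torsion_of_quot [IsHausdorff I M] (m : M)
    (h : ∀ n, ∃ k : ℕ, ∀ c ∈ a ^ k, c • (Formal2.quotPowπ A I M n m) = 0) :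
    ∃ k : ℕ, ∀ c ∈ a ^ k, c • m = 0 := by
  choose c hcv using fun n => (exists_val₀_eq_iff a _ (Formal2.quotPowπ A I M n m)).2 (h n)
  have hcomp : ∀ n, Hf a 0 (Formal2.quotPowTrans A I M n) (c (n + 1)) = c n := fun n => by
    apply val₀_injective a
    rw [val₀_natural, hcv, hcv]
    rfl
  obtain ⟨d, hd, hdc⟩ := exists_extend 0 c hcomp
  obtain ⟨x, hx⟩ := hc.lift 0 (Nat.zero_le _) d fun h => hd h
  refine (exists_val₀_eq_iff a M m).1 ⟨x, sub_eq_zero.1 (IsHausdorff.haus ‹_› _ fun n => ?_)⟩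
  rw [SModEq.zero]
  rcases Nat.eq_zero_or_pos n with rfl | hn
  · simp
  obtain ⟨n, rfl⟩ := Nat.exists_eq_add_of_le' hn
  refine (Submodule.Quotient.mk_eq_zero _).1 ?_
  show Formal2.quotPowπ A I M n (val₀ a M x - m) = 0
  rw [map_sub, ← val₀_natural, show Hf a 0 (Formal2.quotPowπ A I M n) x = d (n + 1) from hx (n + 1),
    hdc, hcv, sub_self]

/-- Injectivity. -/
theorem injective [IsHausdorff I M] (i : ℕ) (hi : i ≤ s) (x : Formal2.HV A M i (U a))
    (h : ∀ n, Formal2.HVmap A (Formal2.quotPowπ A I M n) i (U a) x = 0) : x = 0 := by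
  have hψ : ψ a M i x = 0 := by
    refine hc.sep (i + 1) (by omega) _ fun n => ?_
    rw [← tr_mkQ I M (Nat.le_succ n)]
    refine (Hm_comp (i + 1) _ _ _).symm.trans ?_
    refine (congrArg _ ((ψ_natural a M (Formal2.quotPowπ A I M n) i x).symm.trans ?_)).trans (map_zero _)
    rw [h, map_zero]
  cases i with
  | succ i => exact (ψ_bijective a M i).1 (hψ.trans (map_zero _).symm)
  | zero =>
    obtain ⟨m, rfl⟩ := (ψ_zero_eq_zero_iff a M x).1 hψ
    refine (res₀_eq_zero_iff a M m).2 (torsion_of_quot hc m fun n => ?_)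
    refine (res₀_eq_zero_iff a _ _).1 ?_
    rw [← res₀_natural]
    exact h n

/-- A compatible family modulo torsion is congruent to an element of `M`. -/
theorem exists_element [IsPrecomplete I M] (m : ∀ n, Formal2.quotPow A I M n)
    (h : ∀ {n l : ℕ} (hnl : n ≤ l), ∃ k : ℕ, ∀ c ∈ a ^ k,
      c • (tr I M (Nat.add_le_add_right hnl 1) (m l) - m n) = 0) :
    ∃ v : M, ∀ n, ∃ k : ℕ, ∀ c ∈ a ^ k, c • (Formal2.quotPowπ A I M n v - m n) = 0 := by
  choose K₀ hK₀ hK₀' using fun n => hc.range (n + 1)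
  let K : ℕ → ℕ := fun n => Nat.rec (K₀ 0) (fun j r => max r (K₀ (j + 1))) n
  have hK : ∀ n, K₀ n ≤ K n ∧ K n ≤ K (n + 1) := fun n => by
    refine ⟨?_, le_max_left _ _⟩
    cases n with
    | zero => exact le_rfl
    | succ j => exact le_max_right _ _
  have hnK : ∀ n, n + 1 ≤ K n + 1 := fun n => by
    have := (hK₀ n).trans (hK n).1
    omega
  choose w hw using fun n => Submodule.Quotient.mk_surjective _ (tr I M (hnK n) (m (K n)))
  have hγ : ∀ n, ∃ γ : M, (∃ k : ℕ, ∀ c ∈ a ^ k, c • γ = 0) ∧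
      w (n + 1) - w n + γ ∈ (I ^ (n + 1) • ⊤ : Submodule A M) := fun n => by
    obtain ⟨e, he⟩ := (exists_val₀_eq_iff a _ _).2 (h (hK n).2)
    obtain ⟨g, hg⟩ := hK₀' n 0 (Nat.zero_le _)
      (Hf a 0 (tr I M ((hK n).1.trans (Nat.le_succ _))) e)
    refine ⟨-val₀ a M g, ?_, (Submodule.Quotient.mk_eq_zero _).1 ?_⟩
    · obtain ⟨k, hk⟩ := (exists_val₀_eq_iff a M _).1 ⟨g, rfl⟩
      exact ⟨k, fun c hc => by rw [smul_neg, hk c hc, neg_zero]⟩
    have e1 := congrArg (val₀ a _) hg
    rw [val₀_natural, val₀_natural, val₀_natural, he] at e1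
    have e1' : Formal2.quotPowπ A I M n (val₀ a M g) = tr I M (hK₀ n)
        (tr I M ((hK n).1.trans (Nat.le_succ _))
          (tr I M (Nat.add_le_add_right (hK n).2 1) (m (K (n + 1))) - m (K n))) := e1
    have e2 : (Submodule.Quotient.mk (w (n + 1)) : Formal2.quotPow A I M n) =
        tr I M (show n + 1 ≤ K (n + 1) + 1 by have := hnK (n + 1); omega) (m (K (n + 1))) := by
      have := congrArg (tr I M (show n + 1 ≤ n + 1 + 1 by omega)) (hw (n + 1))
      rw [tr_tr_apply] at this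
      exact this
    simp only [map_sub, tr_tr_apply] at e1'
    rw [Submodule.Quotient.mk_add, Submodule.Quotient.mk_sub, Submodule.Quotient.mk_neg, e2, hw n,
      ← sub_eq_add_neg, sub_eq_zero]
    exact e1'.symm
  choose γ hγt hγ using hγ
  let v : ℕ → M := fun n => w n + ∑ j ∈ Finset.range n, γ j
  have hv : ∀ n, v (n + 1) - v n ∈ (I ^ (n + 1) • ⊤ : Submodule A M) := fun n => by
    have : v (n + 1) - v n = w (n + 1) - w n + γ n := by
      simp only [v, Finset.sum_range_succ]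
      abel
    rw [this]
    exact hγ n
  have hcs : ∀ {n l : ℕ}, n ≤ l → v l - v n ∈ (I ^ (n + 1) • ⊤ : Submodule A M) := fun {n l} hnl => by
    induction l, hnl using Nat.le_induction with
    | base => simp
    | succ l hl ih =>
      rw [show v (l + 1) - v n = (v (l + 1) - v l) + (v l - v n) by abel]
      exact add_mem (Submodule.smul_mono_left (Ideal.pow_le_pow_right (by omega)) (hv l)) ih
  obtain ⟨L, hL⟩ := IsPrecomplete.prec ‹IsPrecomplete I M› (f := v) fun {p l} hpl => by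
    rw [SModEq.sub_mem, ← neg_sub]
    exact neg_mem (Submodule.smul_mono_left (Ideal.pow_le_pow_right (Nat.le_succ p)) (hcs hpl))
  refine ⟨L, fun n => ?_⟩
  have hLn : Formal2.quotPowπ A I M n L = Submodule.Quotient.mk (v n) := by
    refine (Submodule.Quotient.eq _).2 ?_
    rw [show L - v n = (v (n + 1) - v n) - (v (n + 1) - L) by abel]
    exact sub_mem (hv n) (SModEq.sub_mem.1 (hL (n + 1)))
  obtain ⟨k₁, hk₁⟩ := h (show n ≤ K n by have := hnK n; omega)
  have hsum : ∀ F : Finset ℕ, ∃ k : ℕ, ∀ c ∈ a ^ k, c • ∑ j ∈ F, γ j = 0 := fun F => by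
    choose kj hkj using hγt
    refine ⟨F.sup kj, fun c hc => ?_⟩
    rw [Finset.smul_sum]
    exact Finset.sum_eq_zero fun j hj => hkj j c (Ideal.pow_le_pow_right (Finset.le_sup hj) hc)
  obtain ⟨k₂, hk₂⟩ := hsum (Finset.range n)
  refine ⟨max k₁ k₂, fun c hc => ?_⟩
  rw [hLn, Submodule.Quotient.mk_add, hw, add_sub_right_comm, smul_add,
    hk₁ c (Ideal.pow_le_pow_right (le_max_left _ _) hc), zero_add, ← Submodule.Quotient.mk_smul,
    hk₂ c (Ideal.pow_le_pow_right (le_max_right _ _) hc), Submodule.Quotient.mk_zero]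

/-- Surjectivity. -/
theorem surjective [IsPrecomplete I M] (i : ℕ) (hi : i + 1 ≤ s)
    (y : ∀ n, Formal2.HV A (Formal2.quotPow A I M n) i (U a))
    (hy : ∀ n, Formal2.HVmap A (Formal2.quotPowTrans A I M n) i (U a) (y (n + 1)) = y n) :
    ∃ x, ∀ n, Formal2.HVmap A (Formal2.quotPowπ A I M n) i (U a) x = y n := by
  obtain ⟨d, hd, hdc⟩ := exists_extend (i + 1) (fun n => ψ a _ i (y n)) fun n => by
    rw [← ψ_natural, hy]
  obtain ⟨z, hz⟩ := hc.lift (i + 1) hi d fun h => hd h
  have hz' : ∀ n, Hf a (i + 1) (Formal2.quotPowπ A I M n) z = ψ a _ i (y n) := fun n =>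
    (hz (n + 1)).trans (hdc n)
  cases i with
  | succ i =>
    obtain ⟨x, rfl⟩ := (ψ_bijective a M i).2 z
    exact ⟨x, fun n => (ψ_bijective a _ i).1 ((ψ_natural a M _ _ x).trans (hz' n))⟩
  | zero =>
    obtain ⟨x, rfl⟩ := ψ_zero_surjective a M z
    choose m hm using fun n => (ψ_zero_eq_zero_iff a _
      (y n - Formal2.HVmap A (Formal2.quotPowπ A I M n) 0 (U a) x)).1 (by
        rw [map_sub, ψ_natural, hz', sub_self])
    have hcompat : ∀ {n l : ℕ} (hnl : n ≤ l), ∃ k : ℕ, ∀ c ∈ a ^ k,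
        c • (tr I M (Nat.add_le_add_right hnl 1) (m l) - m n) = 0 := fun {n l} hnl => by
      refine (res₀_eq_zero_iff a _ _).1 ?_
      rw [map_sub, sub_eq_zero]
      induction l, hnl using Nat.le_induction with
      | base => rw [tr_self]
      | succ l hl ih =>
        have e : res₀ a _ (Formal2.quotPowTrans A I M l (m (l + 1))) = res₀ a _ (m l) := by
          rw [← res₀_natural, hm, hm, map_sub, hy, hv_comp]
          rfl
        rw [show tr I M (Nat.add_le_add_right (hl.trans (Nat.le_succ l)) 1) (m (l + 1)) =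
          tr I M (Nat.add_le_add_right hl 1) (Formal2.quotPowTrans A I M l (m (l + 1))) from
          LinearMap.congr_fun (tr_quotPowTrans I M hl) _]
        rw [← res₀_natural, e, res₀_natural, ih]
    obtain ⟨v, hv⟩ := exists_element hc m hcompat
    refine ⟨x + res₀ a M v, fun n => ?_⟩
    have h0 := (res₀_eq_zero_iff a _ _).2 (hv n)
    rw [map_sub, sub_eq_zero] at h0
    rw [map_add, res₀_natural, h0, hm, add_sub_cancel]

/-- The comparison is bijective. -/
theorem Ctrl.formalCohBijective [IsAdicComplete I M] (i : ℕ) (hi : i + 1 ≤ s) :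
    Formal2.FormalCohBijective A I M i (U a) :=
  ⟨fun x x' h => sub_eq_zero.1 (injective hc i (by omega) _ fun n => by
    rw [map_sub, h n, sub_self]), surjective hc i hi⟩

omit hc in
/-- The comparison is bijective, from pro-vanishing. -/
theorem formalCohBijective (hpro : Pro I a M s) [IsAdicComplete I M] (i : ℕ) (hi : i + 1 ≤ s) :
    Formal2.FormalCohBijective A I M i (U a) :=
  hpro.ctrl.formalCohBijective i hi

end Groth.Agent.Lib.PuncturedLC
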