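import Groth.Agent.Lib.PuncturedLC.Formal
import Groth.Agent.Lib.LCFin.Seq

/-!
# The principal case with finite local cohomology

If `t` is regular on `M` and `H^i_a(M)` is finite for `i ≤ s + 1` over a `t`-adically complete
Noetherian ring, then the local cohomology of the quotients `M/t^n M` controls that of `M`.
-/

universe u

open CategoryTheory CategoryTheory.Limits Opposite

attribute [local instance] HasDerivedCategory.standard

namespace Groth.Agent.Lib.PuncturedLC

open Groth.Agent.Lib.ProZero.Complex Groth.Agent.Lib.ProZero.Seq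

variable {A : Type u} [CommRing A] [IsNoetherianRing A] (a : Ideal A) (t : A) (M : Type u)
  [AddCommGroup M] [Module A M] [Module.Finite A M]

omit [Module.Finite A M] in
lemma Hf_lsmul (i : ℕ) (c : A) (x : Ha a i M) :
    Hf a i (LinearMap.lsmul A M c) x = c • x := by
  apply (toLC a M i).injective
  rw [toLC_natural, map_smul]
  exact LCFin.Seq.Hmap_lsmul a i c _

/-- The comparison data from finiteness. -/
theorem ctrl_of_finite (hreg : IsSMulRegular M t) [IsAdicComplete (Ideal.span {t}) A] (s : ℕ)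
    (hfin : ∀ i ≤ s + 1, Module.Finite A (LocCoh.H a i M)) : Ctrl (Ideal.span {t}) a M s := by
  let I : Ideal A := Ideal.span {t}
  have hfin' : ∀ i ≤ s + 1, Module.Finite A (Ha a i M) := fun i hi =>
    have := hfin i hi
    Module.Finite.equiv (toLC a M i).symm
  have hmem : ∀ (N : Type u) [AddCommGroup N] [Module A N] (k : ℕ) (v : N),
      v ∈ (I ^ k • ⊤ : Submodule A N) ↔ ∃ w, t ^ k • w = v := fun N _ _ k v => by
    rw [show (I ^ k • ⊤ : Submodule A N) = (Ideal.span {t ^ k}) • (⊤ : Submodule A N) by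
      rw [← Ideal.span_singleton_pow],
      Submodule.ideal_span_singleton_smul, Submodule.mem_smul_pointwise_iff_exists]
    simp
  let S : ℕ → ShortComplex (ModuleCat.{u} A) := fun k =>
    ShortComplex.mk (ModuleCat.ofHom (LinearMap.lsmul A M (t ^ k))) (ModuleCat.ofHom (pw I M k).mkQ)
      (ModuleCat.hom_ext (LinearMap.ext fun v => (Submodule.Quotient.mk_eq_zero _).2
        ((hmem M k _).2 ⟨v, rfl⟩)))
  have hS : ∀ k, (S k).ShortExact := fun k =>
    { exact := (ShortComplex.ShortExact.moduleCat_exact_iff_function_exact _).2 fun v => by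
        show Submodule.Quotient.mk v = 0 ↔ v ∈ Set.range (LinearMap.lsmul A M (t ^ k))
        rw [Submodule.Quotient.mk_eq_zero, hmem]
        rfl
      mono_f := (ModuleCat.mono_iff_injective _).2 (hreg.pow k)
      epi_g := (ModuleCat.epi_iff_surjective _).2 (pw I M k).mkQ_surjective }
  let δ := fun i k => ((htDeltaSeq (PrimeSpectrum.zeroLocus (a : Set A))).δ (hS k) i).hom
  -- kernels of the projections
  have hker : ∀ (i k : ℕ) (x : Ha a i M),
      Hf a i (pw I M k).mkQ x = 0 ↔ x ∈ (I ^ k • ⊤ : Submodule A (Ha a i M)) := fun i k x => by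
    rw [hmem]
    refine ((htDeltaSeq (PrimeSpectrum.zeroLocus (a : Set A))).exact₂ (hS k) i x).trans ?_
    show (∃ w, Hf a i (LinearMap.lsmul A M (t ^ k)) w = x) ↔ _
    simp_rw [Hf_lsmul]
  have hrange : ∀ n, ∃ (k : ℕ) (h : n ≤ k), ∀ i ≤ s, ∀ x : Ha a i (M ⧸ pw I M k),
      ∃ y, Hf a i (pw I M n).mkQ y = Hf a i (tr I M h) x := by
    intro n
    have hbound : ∀ i ≤ s + 1, ∃ c, ∀ k, c ≤ k → ∀ v : Ha a i M, t ^ k • v = 0 → t ^ c • v = 0 := by
      intro i hi
      have := hfin' i hi
      obtain ⟨c, hc⟩ := monotone_stabilizes_iff_noetherian.2 (inferInstance : IsNoetherian A (Ha a i M))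
        ⟨fun k => LinearMap.ker ((t ^ k) • (LinearMap.id : Ha a i M →ₗ[A] Ha a i M)), fun p q hpq v hv => by
          obtain ⟨e, rfl⟩ := Nat.exists_eq_add_of_le hpq
          rw [LinearMap.mem_ker, LinearMap.smul_apply, LinearMap.id_apply] at hv ⊢
          rw [pow_add, mul_comm, mul_smul, hv, smul_zero]⟩
      exact ⟨c, fun k hk v hv => LinearMap.mem_ker.1 ((hc k hk).ge (LinearMap.mem_ker.2
        (show ((t ^ k) • (LinearMap.id : Ha a i M →ₗ[A] Ha a i M)) v = 0 from hv)))⟩
    choose c hc using hbound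
    let C := (Finset.range (s + 2)).attach.sup fun i => c i.1 (by
      have := Finset.mem_range.1 i.2; omega)
    refine ⟨n + C, Nat.le_add_right n C, fun i hi x => ?_⟩
    refine ((htDeltaSeq (PrimeSpectrum.zeroLocus (a : Set A))).exact₃ (hS n) i _).1 ?_
    have hle : c (i + 1) (by omega) ≤ C := Finset.le_sup
      (f := fun j : {j // j ∈ Finset.range (s + 2)} => c j.1 (by
        have := Finset.mem_range.1 j.2; omega))
      (Finset.mem_attach (Finset.range (s + 2)) ⟨i + 1, Finset.mem_range.2 (by omega)⟩)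
    have hnat : δ i n (Hf a i (tr I M (Nat.le_add_right n C)) x) = t ^ C • δ i (n + C) x := by
      let φ : S (n + C) ⟶ S n :=
        { τ₁ := ModuleCat.ofHom (LinearMap.lsmul A M (t ^ C))
          τ₂ := 𝟙 _
          τ₃ := ModuleCat.ofHom (tr I M (Nat.le_add_right n C))
          comm₁₂ := ModuleCat.hom_ext (LinearMap.ext fun v => by
            show t ^ n • t ^ C • v = t ^ (n + C) • v
            rw [smul_smul, ← pow_add])
          comm₂₃ := rfl }
      refine (ConcreteCategory.congr_hom
        ((htDeltaSeq (PrimeSpectrum.zeroLocus (a : Set A))).naturality (hS (n + C)) (hS n) φ i) x).trans ?_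
      exact Hf_lsmul a M (i + 1) (t ^ C) _
    have h0 : t ^ (n + C) • δ i (n + C) x = 0 := by
      rw [← Hf_lsmul]
      exact ((htDeltaSeq (PrimeSpectrum.zeroLocus (a : Set A))).exact₁ (hS (n + C)) i _).2 ⟨x, rfl⟩
    show δ i n (Hf a i (tr I M (Nat.le_add_right n C)) x) = 0
    rw [hnat]
    obtain ⟨e, he⟩ := Nat.exists_eq_add_of_le hle
    rw [show t ^ C = t ^ e * t ^ c (i + 1) (by omega) by rw [← pow_add, add_comm, ← he], mul_smul,
      hc (i + 1) (by omega) (n + C) (by omega) _ h0, smul_zero]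
  refine ⟨fun i hi x hx => ?_, hrange, fun i hi y hy => ?_⟩
  · have := hfin' i hi
    have : IsAdicComplete I (Ha a i M) := Adic.Complete.isAdicComplete_of_finite
    exact IsHausdorff.haus (IsAdicComplete.toIsHausdorff (I := I)) x fun k =>
      SModEq.zero.2 ((hker i k x).1 (hx k))
  · have := hfin' i (by omega)
    have : IsAdicComplete I (Ha a i M) := Adic.Complete.isAdicComplete_of_finite
    have hlift : ∀ n, ∃ g, Hf a i (pw I M n).mkQ g = y n := fun n => by
      obtain ⟨k, h, hk⟩ := hrange n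
      obtain ⟨z, hz⟩ := hk i hi (y k)
      exact ⟨z, hz.trans (hy h)⟩
    choose g hg using hlift
    have hcauchy : ∀ {n m : ℕ}, n ≤ m → g m - g n ∈ (I ^ n • ⊤ : Submodule A (Ha a i M)) :=
      fun {n m} h => (hker i n _).1 (by
        rw [map_sub, hg n, ← tr_mkQ I M h, ← Hm_comp, hg m, hy h, sub_self])
    obtain ⟨L, hL⟩ := IsPrecomplete.prec (IsAdicComplete.toIsPrecomplete (I := I)) (f := g)
      fun {n m} h => by
        rw [SModEq.sub_mem, ← neg_sub]
        exact neg_mem (hcauchy h)
    refine ⟨L, fun n => ?_⟩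
    rw [← hg n, ← sub_eq_zero, ← map_sub]
    refine (hker i n _).2 ?_
    rw [← neg_sub]
    exact neg_mem (SModEq.sub_mem.1 (hL n))

end Groth.Agent.Lib.PuncturedLC
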