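import Groth.Agent.Lib.PuncturedLC.Bridge
import Groth.Agent.Lib.PuncturedLC.Regular
import Groth.Agent.Lib.ExtShDepth.Stalk
import Groth.Agent.Lib.Modules.StalkRestrict
import Groth.Agent.Lib.DerivedOX.TildeStalk
import Groth.Agent.Lib.LCFin.FinitenessThm

/-!
# Coherent modules on the complement of `V(a)` with a regular element
-/

universe u

open CategoryTheory CategoryTheory.Limits AlgebraicGeometry Opposite TopologicalSpace

attribute [local instance] HasDerivedCategory.standard

namespace Groth.Agent.Lib.PuncturedLC.Model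

open Groth.Agent.H78.Formal Groth.Agent.Lib

variable {A : Type u} [CommRing A]

/-- Depths of the stalks of `M~`. -/
theorem depth_tilde_stalk (R : CommRingCat.{u}) (M : ModuleCat.{u} R) (y : Spec R) :
    LocCoh.depth ((Spec R).presheaf.stalk y) ((tilde M).presheaf.stalk y) =
      LocCoh.depth (Localization.AtPrime y.asIdeal) (LocalizedModule y.asIdeal.primeCompl M) := by
  letI : Algebra R ((Spec R).presheaf.stalk y) := StructureSheaf.stalkAlgebra R y
  haveI : IsLocalization.AtPrime ((Spec R).presheaf.stalk y) y.asIdeal :=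
    StructureSheaf.IsLocalization.to_stalk R y
  haveI : IsScalarTower R ((Spec R).presheaf.stalk y) ((tilde M).presheaf.stalk y) :=
    .of_algebraMap_smul fun _ _ => rfl
  exact ExtShDepth.depth_localization_eq y.asIdeal ((Spec R).presheaf.stalk y) ((tilde M).presheaf.stalk y)
    (tilde.toStalk M y).hom

/-- Depths of the stalks of the sheaf of a module on an open. -/
theorem depth_stalk {U : (Spec (CommRingCat.of A)).Opens} {F : (U : Scheme.{u}).Modules}
    (M : Type u) [AddCommGroup M] [Module A M] (e : F ≅ (SectTower.Θ U).obj (ModuleCat.of A M))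
    (x : (U : Scheme.{u})) (p : PrimeSpectrum A) (hp : U.ι.base x = p) :
    LocCoh.depth ((U : Scheme.{u}).presheaf.stalk x) (F.presheaf.stalk x) =
      LocCoh.depth (Localization.AtPrime p.asIdeal) (LocalizedModule p.asIdeal.primeCompl M) := by
  subst hp
  let y := U.ι.base x
  let T := tilde (R := CommRingCat.of A) (ModuleCat.of A M)
  let f₁ := Modules.StalkModule.stalkMapₗ e.hom x
  let f₂ := Modules.StalkModule.stalkMapₗ e.inv x
  have h12 : ∀ v, f₂ (f₁ v) = v := fun v =>
    ConcreteCategory.congr_hom (((Modules.Stalk.stalkFunctor (U : Scheme.{u}) x).map_comp e.hom e.inv).symm.trans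
      ((congrArg _ e.hom_inv_id).trans ((Modules.Stalk.stalkFunctor (U : Scheme.{u}) x).map_id _))) v
  have h21 : ∀ v, f₁ (f₂ v) = v := fun v =>
    ConcreteCategory.congr_hom (((Modules.Stalk.stalkFunctor (U : Scheme.{u}) x).map_comp e.inv e.hom).symm.trans
      ((congrArg _ e.inv_hom_id).trans ((Modules.Stalk.stalkFunctor (U : Scheme.{u}) x).map_id _))) v
  let e₁ : F.presheaf.stalk x ≃ₗ[(U : Scheme.{u}).presheaf.stalk x]
      ((SectTower.Θ U).obj (ModuleCat.of A M)).presheaf.stalk x :=
    { f₁ with invFun := f₂, left_inv := h12, right_inv := h21 }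
  rw [Depth.Basic.depth_congr e₁]
  letI : Algebra ((Spec (CommRingCat.of A)).presheaf.stalk y) ((U : Scheme.{u}).presheaf.stalk x) :=
    (U.ι.stalkMap x).hom.toAlgebra
  letI : Module ((Spec (CommRingCat.of A)).presheaf.stalk y)
      (((SectTower.Θ U).obj (ModuleCat.of A M)).presheaf.stalk x) :=
    Module.compHom _ (U.ι.stalkMap x).hom
  haveI : IsScalarTower ((Spec (CommRingCat.of A)).presheaf.stalk y) ((U : Scheme.{u}).presheaf.stalk x)
      (((SectTower.Θ U).obj (ModuleCat.of A M)).presheaf.stalk x) :=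
    ⟨fun a b c => mul_smul ((U.ι.stalkMap x).hom a) b c⟩
  let e₂ : ((SectTower.Θ U).obj (ModuleCat.of A M)).presheaf.stalk x
      ≃ₗ[(Spec (CommRingCat.of A)).presheaf.stalk y] T.presheaf.stalk y :=
    { Modules.StalkRestrict.restrictStalkAddEquiv U.ι T x with
      map_smul' := fun a v => Modules.StalkRestrict.restrictStalkAddEquiv_smul U.ι T x a v }
  rw [← Depth.Basic.depth_eq_of_surjective (R := (Spec (CommRingCat.of A)).presheaf.stalk y)
    (ConcreteCategory.bijective_of_isIso (U.ι.stalkMap x)).surjective, Depth.Basic.depth_congr e₂]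
  exact depth_tilde_stalk (CommRingCat.of A) (ModuleCat.of A M) y

/-- A module supported outside `U` gives the zero sheaf on `U`. -/
theorem isZero_of_support {U : (Spec (CommRingCat.of A)).Opens} (T : Type u) [AddCommGroup T]
    [Module A T] (h : ∀ p : PrimeSpectrum A, p ∈ U → p ∉ Module.support A T) :
    IsZero ((SectTower.Θ U).obj (ModuleCat.of A T)) := by
  refine (IsZero.iff_id_eq_zero _).2 (Scheme.Modules.hom_ext _ _ fun W => ?_)
  ext s
  have hsub : Subsingleton (Formal2.HV A T 0 (U.ι ''ᵁ W)) :=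
    subsingleton_of_forall_eq 0 fun z => Sections.eq_zero_of_vanishNear z fun p hp =>
      Sections.vanishNear_of_notMem_support z hp (h p (U.ι_image_le W hp))
  have : Subsingleton (H20.TildeSections.Sec (ModuleCat.of A T) (U.ι ''ᵁ W)) :=
    (Sections.sc T (U.ι ''ᵁ W)).symm.toEquiv.subsingleton
  exact @Subsingleton.elim (H20.TildeSections.Sec (ModuleCat.of A T) (U.ι ''ᵁ W)) this _ _

/-- Regularity transported to a model. -/
theorem mono_map_smul {U : (Spec (CommRingCat.of A)).Opens} {F : (U : Scheme.{u}).Modules}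
    (N : ModuleCat.{u} A) (e : F ≅ (SectTower.Θ U).obj N) (t : A)
    (hreg : Mono (_root_.Formal.smulMod A F t)) :
    Mono ((SectTower.Θ U).map (ModuleCat.ofHom (t • (LinearMap.id : N →ₗ[A] N)))) := by
  have e1 : _root_.Formal.smulMod A ((SectTower.Θ U).obj N) t =
      e.inv ≫ _root_.Formal.smulMod A F t ≫ e.hom :=
    ((congrArg (e.inv ≫ ·) (Groth.Agent.H78.Formal.Sections.smulMod_comp e.hom t)).trans
      (Iso.inv_hom_id_assoc e _)).symm
  have hm : Mono (e.inv ≫ _root_.Formal.smulMod A F t ≫ e.hom) := inferInstance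
  exact (congrArg Mono ((SectTower.smulMod_Θ U N t).symm.trans e1)).mpr hm

variable [IsNoetherianRing A] {a : Ideal A}

/-- A model of a coherent module on `U a` on which `t` is regular. -/
theorem exists_regular_model {F : (↑(U a) : Scheme.{u}).Modules} (hF : Coh.IsCoh F) (t : A)
    (hreg : Mono (_root_.Formal.smulMod A F t)) :
    ∃ (M : Type u) (_ : AddCommGroup M) (_ : Module A M) (_ : Module.Finite A M),
      IsSMulRegular M t ∧ Nonempty (F ≅ (SectTower.Θ (U a)).obj (ModuleCat.of A M)) := by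
  obtain ⟨M, _, _, _, ⟨e⟩⟩ := Bridge.exists_model hF
  let T : Submodule A M := DRing.torsionSub a M
  let q : ModuleCat.of A M ⟶ ModuleCat.of A (M ⧸ T) := ModuleCat.ofHom T.mkQ
  have hzero : IsZero ((SectTower.Θ (U a)).obj (ModuleCat.of A T)) :=
    isZero_of_support T fun p hp hs => by
      obtain ⟨v, hv⟩ := Module.mem_support_iff'.1 hs
      obtain ⟨k, hk⟩ := v.2
      obtain ⟨c, hc, hcp⟩ := SetLike.not_le_iff_exists.1 (show ¬ a ≤ p.asIdeal from hp)
      exact hv (c ^ k) (fun h => hcp (p.isPrime.mem_of_pow_mem k h))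
        (Subtype.ext (hk _ (Ideal.pow_mem_pow hc k)))
  have : IsIso ((SectTower.Θ (U a)).map q) := by
    let S : ShortComplex (ModuleCat.{u} A) := ShortComplex.mk (ModuleCat.ofHom T.subtype) q
      (ModuleCat.hom_ext (LinearMap.exact_subtype_mkQ T).linearMap_comp_eq_zero)
    have hS : S.Exact := (ShortComplex.ShortExact.moduleCat_exact_iff_function_exact S).2
      (LinearMap.exact_subtype_mkQ T)
    have := Theta.epi_map (R := CommRingCat.of A) (U a) q T.mkQ_surjective
    have : Mono ((SectTower.Θ (U a)).map q) :=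
      (Theta.exact_map (R := CommRingCat.of A) (U a) hS).mono_g (hzero.eq_of_src _ _)
    exact isIso_of_mono_of_epi _
  let e' : F ≅ (SectTower.Θ (U a)).obj (ModuleCat.of A (M ⧸ T)) := e ≪≫ asIso ((SectTower.Θ (U a)).map q)
  refine ⟨M ⧸ T, inferInstance, inferInstance, inferInstance, ?_, ⟨e'⟩⟩
  let μ : ModuleCat.of A (M ⧸ T) ⟶ ModuleCat.of A (M ⧸ T) :=
    ModuleCat.ofHom (t • (LinearMap.id : (M ⧸ T) →ₗ[A] (M ⧸ T)))
  have : Mono ((SectTower.Θ (U a)).map μ) := mono_map_smul _ e' t hreg
  let K := LinearMap.ker μ.hom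
  let k : ModuleCat.of A K ⟶ ModuleCat.of A (M ⧸ T) := ModuleCat.ofHom K.subtype
  have := Theta.mono_map (R := CommRingCat.of A) (U a) k Subtype.val_injective
  have hk : (SectTower.Θ (U a)).map k = 0 := by
    rw [← cancel_mono ((SectTower.Θ (U a)).map μ), ← Functor.map_comp, zero_comp,
      show k ≫ μ = 0 from ModuleCat.hom_ext (LinearMap.ext fun y => y.2)]
    exact Theta.map_zero' (R := CommRingCat.of A) (U a) _ _
  have hz : IsZero ((SectTower.Θ (U a)).obj (ModuleCat.of A K)) :=
    IsZero.of_mono_eq_zero ((SectTower.Θ (U a)).map k) hk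
  refine isSMulRegular_iff_right_eq_zero_of_smul.2 fun v hv => ?_
  obtain ⟨m, hm⟩ := SectTower.exists_pow_le hz (⟨v, hv⟩ : K)
  obtain ⟨v, rfl⟩ := Submodule.Quotient.mk_surjective _ v
  have h' : ∀ c ∈ a ^ m, c • v ∈ T := fun c hc =>
    (Submodule.Quotient.mk_eq_zero T).1 (congrArg Subtype.val (hm c hc))
  refine (Submodule.Quotient.mk_eq_zero T).2 ?_
  refine H20.TildeSections.isPowerTorsion_of_forall a (IsNoetherian.noetherian a) fun g hg => ?_
  obtain ⟨j, hj⟩ := h' (g ^ m) (Ideal.pow_mem_pow hg m)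
  exact ⟨j + m, by rw [pow_add, mul_smul]; exact hj _ (Ideal.pow_mem_pow hg j)⟩

end Groth.Agent.Lib.PuncturedLC.Model
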