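import Groth.Agent.Lib.RefHull.DepthIso
import Groth.Agent.Lib.PushDepth.Main
import Groth.Agent.Lib.ExtHH.SheafHom
import Groth.Agent.Lib.QCoh.Pushforward
import Groth.Agent.Lib.Depth.Assoc
import Groth.Prelude.Def_Coh

/-!
# `j_*(F|U)` as the hull of depth two
-/

universe u

open CategoryTheory CategoryTheory.Limits AlgebraicGeometry TopologicalSpace Opposite

set_option linter.style.haveILetI false

namespace Groth.Agent.Lib.PuncturedLC.PushHull

open Groth.Agent.Lib

variable (X : Scheme.{u}) [IsNoetherian X] (U : X.Opens) (F : X.Modules) (hF : Coh.IsCoh F)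
  (hF' : Coh.IsCoh ((Coh.push U.ι).obj (F.restrict U.ι)))

include hF hF'

theorem depth_push (x : X) (hx : x ∉ U) :
    (2 : ℕ∞) ≤ LocCoh.depth (X.presheaf.stalk x)
      (((Coh.push U.ι).obj (F.restrict U.ι)).presheaf.stalk x) := by
  haveI : QuasiCompact U.ι := inferInstance
  haveI : F.IsQuasicoherent := hF.1
  haveI := RefHull.LocFree.finite_stalk hF' x
  exact PushDepth.depth_of_notMem U.ι (F.restrict U.ι) x (by rintro ⟨y, rfl⟩; exact hx y.2)

theorem universal (G : X.Modules) (hG : Coh.IsCoh G) (φ : F ⟶ G)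
    (hφ : IsIso ((Scheme.Modules.restrictFunctor U.ι).map φ))
    (hd : ∀ x : X, x ∉ U → (2 : ℕ∞) ≤ LocCoh.depth (X.presheaf.stalk x) (G.presheaf.stalk x)) :
    (∃! ψ : G ⟶ (Coh.push U.ι).obj (F.restrict U.ι),
        φ ≫ ψ = (Scheme.Modules.restrictAdjunction U.ι).unit.app F) ∧
      ∀ ψ : G ⟶ (Coh.push U.ι).obj (F.restrict U.ι),
        φ ≫ ψ = (Scheme.Modules.restrictAdjunction U.ι).unit.app F → IsIso ψ := by
  haveI := hφ
  let adj := Scheme.Modules.restrictAdjunction U.ι
  have key : ∀ ψ : G ⟶ (Coh.push U.ι).obj (F.restrict U.ι), φ ≫ ψ = adj.unit.app F ↔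
      (adj.homEquiv G _).symm ψ = inv ((Scheme.Modules.restrictFunctor U.ι).map φ) := fun ψ => by
    rw [← ((adj.homEquiv F (F.restrict U.ι)).symm.injective.eq_iff), Adjunction.homEquiv_naturality_left_symm,
      ← Adjunction.homEquiv_id, Equiv.symm_apply_apply]
    exact ⟨fun h => IsIso.eq_inv_of_hom_inv_id h, fun h => by rw [h, IsIso.hom_inv_id]⟩
  refine ⟨⟨adj.homEquiv G _ (inv ((Scheme.Modules.restrictFunctor U.ι).map φ)),
    (key _).2 (Equiv.symm_apply_apply _ _), fun ψ hψ => ?_⟩, fun ψ hψ => ?_⟩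
  · rw [← (key ψ).1 hψ, Equiv.apply_symm_apply]
  refine RefHull.DepthIso.isIso ψ hG hF'.1 fun x => ?_
  by_cases hx : x ∈ U
  · refine Or.inl ?_
    have h1 : IsIso ((Scheme.Modules.restrictFunctor U.ι).map ψ) := by
      have e : (Scheme.Modules.restrictFunctor U.ι).map φ ≫ (Scheme.Modules.restrictFunctor U.ι).map ψ =
          (Scheme.Modules.restrictFunctor U.ι).map (adj.unit.app F) := by rw [← Functor.map_comp, hψ]
      haveI : IsIso ((Scheme.Modules.restrictFunctor U.ι).map (adj.unit.app F)) :=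
        IsIso.of_isIso_comp_right _ (adj.counit.app (F.restrict U.ι))
      haveI : IsIso ((Scheme.Modules.restrictFunctor U.ι).map φ ≫ (Scheme.Modules.restrictFunctor U.ι).map ψ) := by
        rw [e]; infer_instance
      exact IsIso.of_isIso_comp_left ((Scheme.Modules.restrictFunctor U.ι).map φ) _
    exact ExtHH.SheafHom.bijective_stalk_of_isIso_restrict h1 hx
  · refine Or.inr ⟨hd x hx, fun hass => ?_⟩
    haveI := RefHull.LocFree.finite_stalk hF' x
    have h2 := depth_push X U F hF hF' x hx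
    obtain ⟨hp, v, hv⟩ := isAssociatedPrime_iff.mp hass
    have hv0 : v = 0 := RefHull.DepthIso.eq_zero_of_maximalIdeal_smul h2 v fun a ha =>
      (Submodule.mem_bot _).mp (Submodule.mem_colon_singleton.mp (hv ▸ ha))
    apply hp.ne_top
    rw [hv, hv0, eq_top_iff]
    exact fun r _ => Submodule.mem_colon_singleton.mpr (by rw [smul_zero]; exact zero_mem _)

end Groth.Agent.Lib.PuncturedLC.PushHull
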