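import Groth.Agent.Lib.ProZero.KillMap
import Groth.Agent.Lib.Depth.Local
import Mathlib.RingTheory.Filtration

/-!
# Depth of duals of finite modules, and components of a finite module

For a prime `p₀`, a finite module `C` supported in `V(p₀)` and a dualizing complex `ω`, the module
`Hom(C, ω[deg p₀])` has depth `≥ 1` off `p₀` and depth `≥ 2` in codimension `≥ 2`.
-/

universe u w

open CategoryTheory CategoryTheory.Limits Pretriangulated

attribute [local instance] HasDerivedCategory.standard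

namespace Groth.Agent.Lib.PuncturedLC.Reflexive

open Groth.Agent.Lib.DMod Groth.Agent.Lib.RGamma.KillHom
open Groth.Agent.Lib.DMod.Degree (deg)

variable {A : Type u} [CommRing A] [IsNoetherianRing A] {ω : Dual.D A} (hω : Dual.IsDualizing A ω)

include hω

lemma hom_eq_zero (X : Type u) [AddCommGroup X] [Module A X] [Module.Finite A X] {b : ℤ}
    (h : ∀ q ∈ Module.support A X, b < deg hω q) (φ : Dual.inD A X ⟶ ω⟦b⟧) : φ = 0 := by
  have := Degree.finite_hom hω X b
  have hs : Subsingleton (Dual.inD A X ⟶ ω⟦b⟧) := Module.support_eq_empty_iff.1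
    (Set.eq_empty_iff_forall_notMem.2 fun p =>
      Degree.notMem_support_hom_of_outside hω p X b (Or.inr fun q _ hq => h q hq))
  exact Subsingleton.elim _ _

variable {X Y : Type u} [AddCommGroup X] [Module A X] [Module.Finite A X] [AddCommGroup Y]
  [Module A Y] [Module.Finite A Y] {b : ℤ}

omit [Module.Finite A Y] in
lemma eq_zero_of_comp_surj (g : X →ₗ[A] Y) (hg : Function.Surjective g)
    (h : ∀ q ∈ Module.support A (LinearMap.ker g), b ≤ deg hω q)
    (y : Dual.inD A Y ⟶ ω⟦b⟧) (hy : mp g ≫ y = 0) : y = 0 := by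
  have := ProZero.KillMap.comp_eq_zero_of_left (Submodule.injective_subtype _) hg
    (LinearMap.exact_subtype_ker_map g) (α := 𝟙 ω) (show (b - 1) + 1 = b by omega)
    (fun z => by
      rw [hom_eq_zero hω _ (fun q hq => by have := h q hq; omega) z, zero_comp]) y hy
  rwa [CategoryTheory.Functor.map_id, Category.comp_id] at this

omit [Module.Finite A X] in
lemma eq_zero_of_comp_inj (f : X →ₗ[A] Y) (hf : Function.Injective f)
    (h : ∀ q ∈ Module.support A (Y ⧸ LinearMap.range f), b < deg hω q)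
    (y : Dual.inD A Y ⟶ ω⟦b⟧) (hy : mp f ≫ y = 0) : y = 0 := by
  have := ProZero.KillMap.comp_eq_zero_of_right hf (Submodule.mkQ_surjective _)
    (LinearMap.exact_map_mkQ_range f) (α := 𝟙 (ω⟦b⟧))
    (fun z => by rw [hom_eq_zero hω _ h z, zero_comp]) y hy
  rwa [Category.comp_id] at this

omit [Module.Finite A Y] in
lemma exists_comp_surj (g : X →ₗ[A] Y) (hg : Function.Surjective g)
    (h : ∀ q ∈ Module.support A (LinearMap.ker g), b < deg hω q)
    (φ : Dual.inD A X ⟶ ω⟦b⟧) : ∃ y, mp g ≫ y = φ := by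
  obtain ⟨S, hS, rfl⟩ := exists_ses (Submodule.injective_subtype _) hg (LinearMap.exact_subtype_ker_map g)
  exact (Basic.exact_leftComp hS.singleTriangle_distinguished (ω⟦b⟧) φ).1
    (hom_eq_zero hω _ h _)

omit [IsNoetherianRing A] hω [Module.Finite A X] in
lemma mp_smul (c : A) (φ : Dual.inD A X ⟶ ω⟦b⟧) : mp (c • (LinearMap.id : X →ₗ[A] X)) ≫ φ = c • φ := by
  rw [mp_smul_id, Linear.smul_comp, Category.id_comp]

omit [IsNoetherianRing A] hω [Module.Finite A X] in
lemma mem_support_ker (c : A) {q : PrimeSpectrum A}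
    (hq : q ∈ Module.support A (LinearMap.ker (c • (LinearMap.id : X →ₗ[A] X)))) :
    q ∈ Module.support A X ∧ c ∈ q.asIdeal :=
  ⟨Module.support_subset_of_injective _ (Submodule.injective_subtype _) hq,
    Module.annihilator_le_of_mem_support hq
      (Module.mem_annihilator.2 fun v => Subtype.ext (LinearMap.mem_ker.1 v.2 : c • v.1 = 0))⟩

omit [IsNoetherianRing A] hω [Module.Finite A X] in
lemma mem_support_coker (c : A) {q : PrimeSpectrum A}
    (hq : q ∈ Module.support A (X ⧸ LinearMap.range (c • (LinearMap.id : X →ₗ[A] X)))) :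
    q ∈ Module.support A X ∧ c ∈ q.asIdeal :=
  ⟨Module.support_subset_of_surjective _ (Submodule.mkQ_surjective _) hq,
    Module.annihilator_le_of_mem_support hq (Module.mem_annihilator.2 fun v => by
      obtain ⟨w, rfl⟩ := Submodule.Quotient.mk_surjective _ v
      rw [← Submodule.Quotient.mk_smul, Submodule.Quotient.mk_eq_zero]
      exact ⟨w, rfl⟩)⟩

/-- An element is regular on `Hom(X, ω[b])`. -/
theorem regular (c : A) (h₁ : ∀ q ∈ Module.support A X, b ≤ deg hω q)
    (h₂ : ∀ q ∈ Module.support A X, c ∈ q.asIdeal → b < deg hω q)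
    (φ : Dual.inD A X ⟶ ω⟦b⟧) (hφ : c • φ = 0) : φ = 0 := by
  let F : X →ₗ[A] X := c • LinearMap.id
  refine eq_zero_of_comp_inj hω (LinearMap.range F).subtype (Submodule.injective_subtype _)
    (fun q hq => ?_) φ (eq_zero_of_comp_surj hω F.rangeRestrict F.surjective_rangeRestrict
      (fun q hq => ?_) _ ?_)
  · rw [Submodule.range_subtype] at hq
    exact h₂ q (mem_support_coker c hq).1 (mem_support_coker c hq).2
  · rw [LinearMap.ker_rangeRestrict] at hq
    exact h₁ q (mem_support_ker c hq).1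
  · rw [← Category.assoc, ← mp_comp]
    show mp F ≫ φ = 0
    rw [mp_smul, hφ]

/-- Two elements form a regular sequence on `Hom(C, ω[a])`. -/
theorem regular_pair (f g : A) {a : ℤ} (h₀ : ∀ q ∈ Module.support A X, a ≤ deg hω q)
    (h₁ : ∀ q ∈ Module.support A X, f ∈ q.asIdeal → a < deg hω q)
    (h₂ : ∀ q ∈ Module.support A X, f ∈ q.asIdeal → g ∈ q.asIdeal → a + 1 < deg hω q)
    (φ χ : Dual.inD A X ⟶ ω⟦a⟧) (h : g • φ = f • χ) : ∃ χ', f • χ' = φ := by
  let F : X →ₗ[A] X := f • LinearMap.id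
  have hfac : ∀ ψ : Dual.inD A X ⟶ ω⟦a⟧,
      mp F.rangeRestrict ≫ mp (LinearMap.range F).subtype ≫ ψ = f • ψ := fun ψ => by
    rw [← Category.assoc, ← mp_comp]
    exact mp_smul f ψ
  obtain ⟨φ', rfl⟩ := exists_comp_surj hω F.rangeRestrict F.surjective_rangeRestrict (fun q hq => by
    rw [LinearMap.ker_rangeRestrict] at hq
    exact h₁ q (mem_support_ker f hq).1 (mem_support_ker f hq).2) φ
  have h' : g • φ' = mp (LinearMap.range F).subtype ≫ χ := by
    rw [← sub_eq_zero]
    refine eq_zero_of_comp_surj hω F.rangeRestrict F.surjective_rangeRestrict (fun q hq => ?_) _ ?_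
    · rw [LinearMap.ker_rangeRestrict] at hq
      exact h₀ q (mem_support_ker f hq).1
    rw [Preadditive.comp_sub, Linear.comp_smul, h, hfac, sub_self]
  obtain ⟨S, hS, rfl⟩ := exists_ses (Submodule.injective_subtype (LinearMap.range F))
    (Submodule.mkQ_surjective _) (LinearMap.exact_subtype_mkQ _)
  let δ := HomSupp.conn hS.singleTriangle ω a (a + 1) rfl
  have hex := HomSupp.exact_leftComp_conn hS.singleTriangle_distinguished ω a (a + 1) rfl
  have h0 : δ φ' = 0 := by
    refine regular (X := X ⧸ LinearMap.range F) hω g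
      (fun q hq => by have := h₁ q (mem_support_coker f hq).1 (mem_support_coker f hq).2; omega)
      (fun q hq hg => h₂ q (mem_support_coker f hq).1 (mem_support_coker f hq).2 hg) _ ?_
    refine (map_smul δ g φ').symm.trans ((congrArg δ h').trans ?_)
    exact (hex _).2 ⟨χ, rfl⟩
  obtain ⟨χ', hχ'⟩ := (hex φ').1 h0
  exact ⟨χ', (hfac χ').symm.trans (congrArg (fun z => mp F.rangeRestrict ≫ z) hχ')⟩

/-- Elements of `p` cutting down `V(p₀)`. -/
theorem exists_avoid {p₀ p : PrimeSpectrum A} (hle : p₀ ≤ p) (hd : deg hω p₀ + 2 ≤ deg hω p) :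
    ∃ f ∈ p.asIdeal, ∃ g ∈ p.asIdeal, f ∉ p₀.asIdeal ∧
      ∀ q, p₀ ≤ q → f ∈ q.asIdeal → g ∈ q.asIdeal → deg hω p₀ + 1 < deg hω q := by
  classical
  have hlt : p₀ < p := lt_of_le_of_ne hle fun h => by subst h; omega
  obtain ⟨f, hfp, hf⟩ := Degree.exists_mem_notMem hlt
  let J : Ideal A := p₀.asIdeal ⊔ Ideal.span {f}
  have hfin := (Ideal.finite_minimalPrimes_of_isNoetherianRing A J)
  let S : Set (PrimeSpectrum A) := {q | q.asIdeal ∈ J.minimalPrimes ∧ deg hω q ≤ deg hω p₀ + 1}
  have hS : S.Finite := (hfin.preimage (fun x _ y _ h => PrimeSpectrum.ext h)).subset fun q hq => hq.1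
  obtain ⟨g, hgp, hg⟩ : ∃ g ∈ p.asIdeal, ∀ q ∈ S, g ∉ q.asIdeal := by
    by_contra hc
    push Not at hc
    have hsub : (p.asIdeal : Set A) ⊆
        ⋃ q ∈ (↑hS.toFinset : Set (PrimeSpectrum A)), (q.asIdeal : Set A) := fun t ht => by
      obtain ⟨q, hq, hq'⟩ := hc t ht
      exact Set.mem_biUnion (hS.mem_toFinset.2 hq) hq'
    obtain ⟨q₀, -, -⟩ := hc 0 (zero_mem _)
    obtain ⟨q, hq, hpq⟩ := (Ideal.subset_union_prime (f := PrimeSpectrum.asIdeal)
      (s := hS.toFinset) q₀ q₀ fun q _ _ _ => q.isPrime).1 hsub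
    have := (hS.mem_toFinset.1 hq).2
    have := Degree.deg_le hω (show p ≤ q from hpq)
    omega
  refine ⟨f, hfp, g, hgp, hf, fun q hq hfq hgq => ?_⟩
  obtain ⟨Q, hQ, hQq⟩ := Ideal.exists_minimalPrimes_le (I := J) (J := q.asIdeal)
    (sup_le hq ((Ideal.span_singleton_le_iff_mem _).2 hfq))
  let q₁ : PrimeSpectrum A := ⟨Q, hQ.1.1⟩
  have hfQ : f ∈ Q := hQ.1.2 (le_sup_right (a := p₀.asIdeal) (Ideal.mem_span_singleton_self f))
  have h1 : deg hω p₀ < deg hω q₁ := Degree.deg_lt hω
    (lt_of_le_of_ne (show p₀ ≤ q₁ from le_sup_left.trans hQ.1.2)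
      fun h => hf (show f ∈ p₀.asIdeal by rw [h]; exact hfQ))
  have h2 := Degree.deg_le hω (show q₁ ≤ q from hQq)
  by_contra hc
  have hqS : q₁ ∈ S := ⟨hQ, by omega⟩
  have hne : q₁ ≠ q := fun h => hg q₁ hqS (h ▸ hgq)
  have := Degree.deg_lt hω (lt_of_le_of_ne (show q₁ ≤ q from hQq) hne)
  omega

omit [IsNoetherianRing A] hω in
/-- A finite module has a model in the base universe. -/
theorem exists_model (Z : Type w) [AddCommGroup Z] [Module A Z] [Module.Finite A Z] :
    ∃ (G : Type u) (_ : AddCommGroup G) (_ : Module A G) (_ : Module.Finite A G),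
      Nonempty (G ≃ₗ[A] Z) := by
  obtain ⟨n, π, hπ⟩ := Module.Finite.exists_fin' A Z
  exact ⟨(Fin n → A) ⧸ LinearMap.ker π, inferInstance, inferInstance, inferInstance,
    ⟨π.quotKerEquivOfSurjective hπ⟩⟩

omit [IsNoetherianRing A] hω in
lemma regular_linearMap {H G : Type u} [AddCommGroup H] [Module A H] [AddCommGroup G] [Module A G]
    {f : A} (hf : IsSMulRegular G f) : IsSMulRegular (H →ₗ[A] G) f :=
  fun _ _ h => LinearMap.ext fun x => hf (LinearMap.congr_fun h x)

omit [IsNoetherianRing A] hω in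
lemma regular_linearMap_pair {H G : Type u} [AddCommGroup H] [Module A H] [AddCommGroup G]
    [Module A G] {f g : A} (hf : IsSMulRegular G f)
    (hg : ∀ x y : G, g • x = f • y → ∃ z, f • z = x) :
    RingTheory.Sequence.IsWeaklyRegular (H →ₗ[A] G) [f, g] := by
  rw [RingTheory.Sequence.isWeaklyRegular_cons_iff, RingTheory.Sequence.isWeaklyRegular_cons_iff]
  refine ⟨regular_linearMap hf, isSMulRegular_iff_right_eq_zero_of_smul.2 fun x hx => ?_,
    RingTheory.Sequence.IsWeaklyRegular.nil _ _⟩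
  obtain ⟨φ, rfl⟩ := Submodule.Quotient.mk_surjective _ x
  rw [← Submodule.Quotient.mk_smul, Submodule.Quotient.mk_eq_zero,
    Submodule.mem_smul_pointwise_iff_exists] at hx
  obtain ⟨χ, -, hχ⟩ := hx
  choose z hz using fun v => hg (φ v) (χ v) (LinearMap.congr_fun hχ v).symm
  rw [Submodule.Quotient.mk_eq_zero, Submodule.mem_smul_pointwise_iff_exists]
  refine ⟨{ toFun := z, map_add' := fun v w => hf ?_, map_smul' := fun c v => hf ?_ },
    Submodule.mem_top, LinearMap.ext hz⟩
  · show f • z (v + w) = f • (z v + z w)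
    rw [smul_add, hz, hz, hz, map_add]
  · show f • z (c • v) = f • (c • z v)
    rw [smul_comm, hz, hz, map_smul]

omit [IsNoetherianRing A] hω [Module.Finite A X] [Module.Finite A Y] in
lemma mp_add (φ ψ : X →ₗ[A] Y) : mp (φ + ψ) = mp φ + mp ψ :=
  (congrArg s0.map (rfl : ModuleCat.ofHom (φ + ψ) = ModuleCat.ofHom φ + ModuleCat.ofHom ψ)).trans
    s0.map_add

omit [IsNoetherianRing A] hω [Module.Finite A X] [Module.Finite A Y] in
lemma mp_smul' (r : A) (φ : X →ₗ[A] Y) : mp (r • φ) = r • mp φ :=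
  (congrArg s0.map (rfl : ModuleCat.ofHom (r • φ) = r • ModuleCat.ofHom φ)).trans
    (Functor.map_smul s0 r _)

/-- A component of `M` at a prime. -/
theorem exists_component (p₀ : PrimeSpectrum A) (M : Type u) [AddCommGroup M] [Module A M]
    [Module.Finite A M] :
    ∃ (P : Type u) (_ : AddCommGroup P) (_ : Module A P) (_ : Module.Finite A P) (e : M →ₗ[A] P),
      (∀ p ∈ Module.support A P, p₀ ≤ p) ∧
      (∀ p : PrimeSpectrum A, p₀ < p → (1 : ℕ∞) ≤
        LocCoh.depth (Localization.AtPrime p.asIdeal) (LocalizedModule p.asIdeal.primeCompl P)) ∧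
      (∀ p : PrimeSpectrum A, p₀ ≤ p → deg hω p₀ + 2 ≤ deg hω p → (2 : ℕ∞) ≤
        LocCoh.depth (Localization.AtPrime p.asIdeal) (LocalizedModule p.asIdeal.primeCompl P)) ∧
      ∀ x : M, (∀ c : A, c ∈ p₀.asIdeal ↔ c • x = 0) → e x ≠ 0 := by
  let a := deg hω p₀
  let T : Submodule A M := Submodule.torsionBySet A M p₀.asIdeal
  obtain ⟨k₀, hk₀⟩ := Ideal.exists_pow_inf_eq_pow_smul p₀.asIdeal T
  let k := k₀ + 1
  let J : Ideal A := p₀.asIdeal ^ k
  have hkT : (J • (⊤ : Submodule A M)) ⊓ T = ⊥ := by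
    rw [eq_bot_iff, hk₀ k (Nat.le_succ k₀), show k - k₀ = 1 by omega, pow_one]
    exact Submodule.smul_le.2 fun c hc v hv => (Submodule.mem_bot A).2
      ((Submodule.mem_torsionBySet_iff _ _).1 hv.2 ⟨c, hc⟩)
  have hsupp : ∀ q ∈ Module.support A (A ⧸ J), p₀ ≤ q := fun q hq => by
    have := Module.annihilator_le_of_mem_support hq
    rw [Ideal.annihilator_quotient] at this
    exact q.isPrime.le_of_pow_le this
  have := Degree.finite_hom hω (A ⧸ J) a
  obtain ⟨G, _, _, _, ⟨eG⟩⟩ := exists_model (A := A) (Dual.inD A (A ⧸ J) ⟶ ω⟦a⟧)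
  have hfin : Module.Finite A ((M →ₗ[A] G) →ₗ[A] G) := inferInstance
  have hregf : ∀ f : A, f ∉ p₀.asIdeal → IsSMulRegular G f := fun f hf =>
    isSMulRegular_iff_right_eq_zero_of_smul.2 fun x hx => eG.injective <| by
      rw [map_zero]
      refine regular hω f (fun q hq => Degree.deg_le hω (hsupp q hq))
        (fun q hq hfq => Degree.deg_lt hω (lt_of_le_of_ne (hsupp q hq) fun h => hf ?_)) _
        (by rw [← map_smul, hx, map_zero])
      rw [h]; exact hfq
  refine ⟨(M →ₗ[A] G) →ₗ[A] G, inferInstance, inferInstance, hfin, LinearMap.applyₗ,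
    fun p hp => ?_, fun p hp => ?_, fun p hle hd => ?_, fun x hx => ?_⟩
  · refine p.isPrime.le_of_pow_le (n := k) (le_trans (fun c hc => ?_) (Module.annihilator_le_of_mem_support hp))
    refine Module.mem_annihilator.2 fun φ => LinearMap.ext fun ψ => eG.injective ?_
    rw [LinearMap.smul_apply, map_smul, LinearMap.zero_apply, map_zero]
    refine HomSupp.smul_hom_eq_zero_left (HomSupp.smul_id_inD fun v => ?_) _
    obtain ⟨v, rfl⟩ := Submodule.Quotient.mk_surjective _ v
    rw [← Submodule.Quotient.mk_smul, Submodule.Quotient.mk_eq_zero]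
    exact J.mul_mem_right v hc
  · obtain ⟨f, hfp, hf⟩ := Degree.exists_mem_notMem hp
    refine le_trans ?_ (Depth.Local.idealDepth_le_depth_localization p.asIdeal _ p.asIdeal le_rfl)
    exact Depth.Basic.length_le_idealDepth (rs := [f])
      ((RingTheory.Sequence.isWeaklyRegular_singleton_iff _ f).2 (regular_linearMap (hregf f hf)))
      fun r hr => by rw [List.mem_singleton.1 hr]; exact hfp
  · obtain ⟨f, hfp, g, hgp, hf, hfg⟩ := exists_avoid hω hle hd
    refine le_trans ?_ (Depth.Local.idealDepth_le_depth_localization p.asIdeal _ p.asIdeal le_rfl)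
    refine Depth.Basic.length_le_idealDepth (rs := [f, g]) (regular_linearMap_pair (hregf f hf)
      fun y z h => ?_) fun r hr => ?_
    · obtain ⟨χ', hχ'⟩ := regular_pair hω f g (fun q hq => Degree.deg_le hω (hsupp q hq))
        (fun q hq hfq => Degree.deg_lt hω (lt_of_le_of_ne (hsupp q hq) fun h' => hf (by
          rw [h']; exact hfq)))
        (fun q hq hfq hgq => hfg q (hsupp q hq) hfq hgq) (eG y) (eG z) (by rw [← map_smul, h, map_smul])
      exact ⟨eG.symm χ', eG.injective (by rw [map_smul, eG.apply_symm_apply, hχ'])⟩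
    · rcases List.mem_cons.1 hr with rfl | hr
      · exact hfp
      · rw [List.mem_singleton.1 hr]; exact hgp
  · let Q := M ⧸ (J • (⊤ : Submodule A M))
    let ι : (A ⧸ p₀.asIdeal) →ₗ[A] Q :=
      Submodule.liftQ p₀.asIdeal (LinearMap.toSpanSingleton A Q (Submodule.Quotient.mk x)) fun c hc => by
        rw [LinearMap.mem_ker, LinearMap.toSpanSingleton_apply, ← Submodule.Quotient.mk_smul,
          (hx c).1 hc, Submodule.Quotient.mk_zero]
    have hι : Function.Injective ι := by
      rw [injective_iff_map_eq_zero]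
      intro z hz
      obtain ⟨c, rfl⟩ := Submodule.Quotient.mk_surjective _ z
      change c • (Submodule.Quotient.mk x : Q) = 0 at hz
      rw [← Submodule.Quotient.mk_smul, Submodule.Quotient.mk_eq_zero] at hz
      have hT : c • x ∈ T := (Submodule.mem_torsionBySet_iff _ _).2 fun r => by
        rw [smul_comm, (hx r.1).1 r.2, smul_zero]
      have h0 : c • x ∈ (J • (⊤ : Submodule A M)) ⊓ T := ⟨hz, hT⟩
      rw [hkT, Submodule.mem_bot] at h0
      exact (Submodule.Quotient.mk_eq_zero _).2 ((hx c).2 h0)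
    have := Degree.finite_hom hω (A ⧸ p₀.asIdeal) a
    obtain ⟨ψ₀, hψ₀⟩ := Module.mem_support_iff'.1 (Degree.mem_support_deg hω p₀)
    -- extend `ψ₀` to `Q` up to an element outside `p₀`
    obtain ⟨s, hs, φ, hφ⟩ : ∃ s ∉ p₀.asIdeal, ∃ φ : Dual.inD A Q ⟶ ω⟦a⟧, mp ι ≫ φ = s • ψ₀ := by
      obtain ⟨S, hS, rfl⟩ := exists_ses hι (Submodule.mkQ_surjective (LinearMap.range ι))
        (LinearMap.exact_map_mkQ_range ι)
      have := Degree.finite_hom hω (Q ⧸ LinearMap.range ι) (a + 1)
      let δ := HomSupp.conn hS.singleTriangle ω a (a + 1) rfl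
      have hns : p₀ ∉ Module.support A (Dual.inD A (Q ⧸ LinearMap.range ι) ⟶ ω⟦a + 1⟧) :=
        Degree.notMem_support_hom_of_outside hω p₀ _ _ (Or.inl (by omega))
      obtain ⟨s, hs, hs0⟩ := Module.notMem_support_iff'.1 hns (δ ψ₀)
      obtain ⟨φ, hφ⟩ := (HomSupp.exact_leftComp_conn hS.singleTriangle_distinguished ω a (a + 1) rfl
        (s • ψ₀)).1 ((map_smul δ s ψ₀).trans hs0)
      exact ⟨s, hs, φ, hφ⟩
    let rep : M →ₗ[A] ((A ⧸ J) →ₗ[A] Q) :=
      { toFun := fun m => Submodule.liftQ J (LinearMap.toSpanSingleton A Q (Submodule.Quotient.mk m))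
          fun c hc => by
            rw [LinearMap.mem_ker, LinearMap.toSpanSingleton_apply, ← Submodule.Quotient.mk_smul,
              Submodule.Quotient.mk_eq_zero]
            exact Submodule.smul_mem_smul hc Submodule.mem_top
        map_add' := fun v w => by
          refine LinearMap.ext fun z => ?_
          obtain ⟨c, rfl⟩ := Submodule.Quotient.mk_surjective _ z
          exact smul_add c (Submodule.Quotient.mk v : Q) (Submodule.Quotient.mk w)
        map_smul' := fun r v => by
          refine LinearMap.ext fun z => ?_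
          obtain ⟨c, rfl⟩ := Submodule.Quotient.mk_surjective _ z
          exact smul_comm c r (Submodule.Quotient.mk v : Q) }
    let pair : M →ₗ[A] G :=
      { toFun := fun m => eG.symm (mp (rep m) ≫ φ)
        map_add' := fun v w => by rw [map_add rep, mp_add, Preadditive.add_comp, map_add]
        map_smul' := fun r v => by rw [RingHom.id_apply, map_smul rep, mp_smul', Linear.smul_comp, map_smul] }
    intro h0
    have h1 : pair x = 0 := LinearMap.congr_fun h0 pair
    replace h1 : mp (rep x) ≫ φ = 0 := eG.symm.injective (h1.trans (map_zero _).symm)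
    let pr : (A ⧸ J) →ₗ[A] A ⧸ p₀.asIdeal := Submodule.mapQ J p₀.asIdeal LinearMap.id
      (Ideal.pow_le_self (Nat.succ_ne_zero k₀))
    have hrep : rep x = ι ∘ₗ pr := by
      refine LinearMap.ext fun z => ?_
      obtain ⟨c, rfl⟩ := Submodule.Quotient.mk_surjective _ z
      rfl
    rw [hrep, mp_comp, Category.assoc, hφ] at h1
    have hpr : Function.Surjective pr := fun z => by
      obtain ⟨c, rfl⟩ := Submodule.Quotient.mk_surjective _ z
      exact ⟨Submodule.Quotient.mk c, rfl⟩
    have h2 := eq_zero_of_comp_surj hω pr hpr (fun q hq => Degree.deg_le hω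
      (hsupp q (Module.support_subset_of_injective _ (Submodule.injective_subtype _) hq))) _ h1
    exact hψ₀ s hs h2

end Groth.Agent.Lib.PuncturedLC.Reflexive
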